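import Groth.Prelude.Def_Canon
import Groth.Agent.Om3.TopForms
import Groth.Agent.Om3.Intersection
import Groth.Agent.Om3.ConormalSeq
import Groth.Agent.Koszul19.Seq
import Groth.Agent.An92.Ample.Inverse
import Groth.Agent.FBase64.ExtPow.Exists
import Groth.Agent.FBase64.ExtPow.Unique
import Groth.Agent.Amp73.PullTensor
import Groth.Agent.Rib52.ExtClass
import Groth.Agent.S9711
import Groth.Prelude.Def_FrameBundle

/-! Rank and determinant facts for canonical sheaves. -/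

set_option autoImplicit false
set_option linter.style.haveILetI false
set_option backward.isDefEq.respectTransparency false

universe u

open CategoryTheory CategoryTheory.Limits AlgebraicGeometry TopologicalSpace Opposite

noncomputable section

namespace Groth.Agent.CAlg8.Canon

open Groth.Agent

variable {X Y Z W : Scheme.{u}}

theorem qcoh_conormal (i : X ⟶ Z) [QuasiCompact i] : (Omega.conormal i).IsQuasicoherent :=
  haveI : (ClSub.idealMod i.ker).IsQuasicoherent := Omega57.isQuasicoherent_idealMod i.ker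
  QCPull72.isQuasicoherent_pullback _ _

theorem surjective_app_of_closedImmersion (f : X ⟶ Y) (V : Y.Opens) (hV : IsClosedImmersion (f ∣_ V)) {A : Y.Opens}
    (hA : IsAffineOpen A) (hAV : A ≤ V) : Function.Surjective (f.app A) := by
  have hA' : IsAffineOpen (V.ι ⁻¹ᵁ A) :=
    hA.preimage_of_isOpenImmersion V.ι (by rw [Scheme.Opens.opensRange_ι]; exact hAV)
  have h1 := (f ∣_ V).app_surjective _ hA'
  rw [morphismRestrict_app] at h1
  have e : V.ι ''ᵁ (V.ι ⁻¹ᵁ A) = A := by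
    rw [Scheme.Hom.image_preimage_eq_opensRange_inf, Scheme.Opens.opensRange_ι, inf_eq_right.2 hAV]
  have key : ∀ A' : Y.Opens, A' = A → Function.Surjective (f.app A') → Function.Surjective (f.app A) := by
    rintro A' rfl h; exact h
  refine key _ e fun b => ?_
  obtain ⟨a, ha⟩ := h1 (X.presheaf.map (eqToHom (image_morphismRestrict_preimage f V (V.ι ⁻¹ᵁ A))).op b)
  rw [CommRingCat.comp_apply] at ha
  exact ⟨a, (ConcreteCategory.bijective_of_isIso _).1 ha⟩

theorem isFinLocFreeOfRank_conormal {k : RegImm.Kind} (hk : k = .regular) {c : ℕ} (i : X ⟶ Z) [QuasiCompact i]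
    (h : RegImm.IsRegularImmersionOfCodim k c i) : FlatMod.IsFinLocFreeOfRank c (Omega.conormal i) := by
  subst hk
  haveI := qcoh_conormal i
  intro x
  obtain ⟨U, hx, hcl, rs, hlen, hreg, hker⟩ := h.2 x
  subst hlen
  have hP : IsAffineOpen (i ⁻¹ᵁ U.1) := by
    haveI : IsAffine (U.1 : Scheme.{u}) := U.2
    exact isAffine_of_isAffineHom (i ∣_ U.1)
  have hI : Ideal.span (Set.range rs.get) = RingHom.ker (i.app U.1).hom := by
    rw [hker, Set.range_list_get]
  obtain ⟨b⟩ := Om3.exists_basis_conormal i U.2 hP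
    (surjective_app_of_closedImmersion i U.1 hcl U.2 le_rfl) rs.get
    (by rw [List.ofFn_get]; exact Koszul19.kR_of_isWeaklyRegular _ hreg.toIsWeaklyRegular) hI
  exact ⟨i ⁻¹ᵁ U.1, hx, FlatMor68.LocFree.restrict_iso_free _ hP _ b.equivFun⟩

theorem isFinLocFreeOfRank_pullback (φ : X ⟶ Z) {n : ℕ} {M : Z.Modules}
    (h : FlatMod.IsFinLocFreeOfRank n M) :
    FlatMod.IsFinLocFreeOfRank n ((Scheme.Modules.pullback φ).obj M) := fun y => by
  obtain ⟨V, hyV, ⟨i⟩⟩ := h (φ y)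
  exact ⟨φ ⁻¹ᵁ V, hyV, ⟨((Amp73.pullRestrictIso φ V).app M).symm ≪≫
      (Scheme.Modules.pullback (φ ∣_ V)).mapIso
        (((Scheme.Modules.restrictFunctorIsoPullback V.ι).app M).symm ≪≫ i) ≪≫
      FrB.pullbackFreeIso (φ ∣_ V) n⟩⟩

theorem isInvertible_of_rank_one {L : X.Modules} (h : FlatMod.IsFinLocFreeOfRank 1 L) : PicF.IsInvertible L :=
  fun x => by
    obtain ⟨U, hx, ⟨φ⟩⟩ := h x
    exact ⟨U, hx, ⟨φ ≪≫ coproductUniqueIso fun _ : Fin 1 => Coh.structureModule (↑U : Scheme.{u})⟩⟩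

/-- The top exterior power of a locally free module is invertible. -/
theorem isInvertible_extPow {c : ℕ} {E L : X.Modules} [E.IsQuasicoherent]
    (hE : FlatMod.IsFinLocFreeOfRank c E) (hL : ExtPow.IsExtPow c E L) : PicF.IsInvertible L := by
  haveI := Om3.isQuasicoherent_of_isExtPow hL
  refine isInvertible_of_rank_one fun x => ?_
  obtain ⟨U, hx, hU⟩ := Om3.DetSeq.exists_basis hE x
  obtain ⟨V, hV, hxV, hle⟩ := exists_isAffineOpen_mem_and_subset hx
  obtain ⟨b⟩ := hU V hle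
  obtain ⟨ψ, -⟩ := Om3.exists_psi hL
  exact ⟨V, hxV, FlatMor68.LocFree.restrict_iso_free L hV 1
    ((ψ ⟨V, hV⟩).symm.trans ((LinearEquiv.ofBijective (LinearMap.toSpanSingleton _ _ _)
      (Om3.DetSeq.bijective_smul_top b)).symm.trans (LinearEquiv.funUnique (Fin 1) _ _).symm))⟩

/-- Tensoring with an invertible module is cancellable. -/
theorem nonempty_iso_of_tensor_right {A B D : X.Modules} (hD : PicF.IsInvertible D)
    (e : CohB1.tensorMod A D ≅ CohB1.tensorMod B D) : Nonempty (A ≅ B) := by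
  obtain ⟨N, -, ⟨f⟩⟩ := An92.InvMod.exists_inverse hD
  let g : CohB1.tensorMod D N ≅ Coh.structureModule X := EGA73.tensComm _ _ ≪≫ f
  exact ⟨(EGA73.tensUnitRight A).symm ≪≫ EGA73.tensIso (Iso.refl A) g.symm ≪≫ (EGA73.tensAssoc' _ _ _).symm ≪≫
    EGA73.tensIso e (Iso.refl N) ≪≫ EGA73.tensAssoc' _ _ _ ≪≫ EGA73.tensIso (Iso.refl B) g ≪≫ EGA73.tensUnitRight B⟩

/-- A locally free quotient by a locally free submodule: the middle term is free with the sum of the ranks. -/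
theorem finLocFree_middle {r m : ℕ} (S : ShortComplex X.Modules) (hS : S.ShortExact)
    [S.X₁.IsQuasicoherent] [S.X₂.IsQuasicoherent] [S.X₃.IsQuasicoherent]
    (hC : FlatMod.IsFinLocFreeOfRank r S.X₁) (hQ : FlatMod.IsFinLocFreeOfRank m S.X₃) :
    FlatMod.IsFinLocFreeOfRank (m + r) S.X₂ := by
  intro x
  have := hS.mono_f
  obtain ⟨U, hU, hU'⟩ := Om3.DetSeq.exists_basis hC x
  obtain ⟨U₂, hU₂, hU₂'⟩ := Om3.DetSeq.exists_basis hQ x
  obtain ⟨V, hV, hxV, hle⟩ := exists_isAffineOpen_mem_and_subset (show x ∈ U ⊓ U₂ from ⟨hU, hU₂⟩)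
  obtain ⟨bC⟩ := hU' V fun y hy => (hle hy).1
  obtain ⟨bQ⟩ := hU₂' V fun y hy => (hle hy).2
  let f := QC70.appLinear S.f V
  let g := QC70.appLinear S.g V
  have hf : Function.Injective f := QC70.app_injective_of_mono S.f V
  have hg : Function.Surjective g := QC70.app_surjective_of_isAffineOpen S hS hV
  have hfg : Function.Exact f g := fun x => ⟨fun hx => QC70.exists_app_eq_of_exact S hS.exact V x hx,
    fun ⟨y, hy⟩ => by rw [← hy]; exact congr($(congrArg (fun φ : S.X₁ ⟶ S.X₃ => φ.app V) S.zero) y)⟩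
  haveI : Module.Projective Γ(X, V) Γ(S.X₃, V) := Module.Projective.of_basis bQ
  obtain ⟨l, hl⟩ := Module.projective_lifting_property g LinearMap.id hg
  obtain ⟨e, -⟩ := (hfg.splitSurjectiveEquiv hf) ⟨l, hl⟩
  exact ⟨V, hxV, FlatMor68.LocFree.restrict_iso_free S.X₂ hV _
    ((e.trans (LinearEquiv.prodComm _ _ _)).trans
      ((bQ.prod bC).reindex finSumFinEquiv).equivFun)⟩

theorem finrank_eq_of_locFree {a b : ℕ} {E : X.Modules} (ha : FlatMod.IsFinLocFreeOfRank a E)
    (hb : FlatMod.IsFinLocFreeOfRank b E) [Nonempty X] : a = b := by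
  obtain ⟨x⟩ := ‹Nonempty X›
  obtain ⟨U, hU, hU'⟩ := Om3.DetSeq.exists_basis ha x
  obtain ⟨U₂, hU₂, hU₂'⟩ := Om3.DetSeq.exists_basis hb x
  obtain ⟨V, hV, hxV, hle⟩ := exists_isAffineOpen_mem_and_subset (show x ∈ U ⊓ U₂ from ⟨hU, hU₂⟩)
  obtain ⟨b₁⟩ := hU' V fun y hy => (hle hy).1
  obtain ⟨b₂⟩ := hU₂' V fun y hy => (hle hy).2
  haveI : Nonempty V := ⟨⟨x, hxV⟩⟩
  haveI : Nontrivial Γ(X, V) := inferInstance
  simpa using Fintype.card_congr (b₁.indexEquiv b₂)

theorem isIso_of_isEmpty [IsEmpty X] (M N : X.Modules) : Nonempty (M ≅ N) := by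
  haveI : IsIso (0 : M ⟶ N) := Amp73.isIso_of_frames _ fun x => isEmptyElim x
  exact ⟨asIso (0 : M ⟶ N)⟩

/-- The determinant of the conormal sequence of `X ⟶ Z ⟶ W` with smooth second map. -/
theorem det_conormal {m r : ℕ} (i : X ⟶ Z) (p : Z ⟶ W) (j : X ⟶ W) [IsImmersion i] [IsImmersion j]
    [QuasiCompact i] [QuasiCompact j] [QuasiSeparated p] (hij : i ≫ p = j)
    (hp : SmoothOfRelativeDimension m p) (hj : FlatMod.IsFinLocFreeOfRank r (Omega.conormal j))
    {LC LΩ : X.Modules} (hLC : ExtPow.IsExtPow r (Omega.conormal j) LC)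
    (hLΩ : ExtPow.IsExtPow m ((Scheme.Modules.pullback i).obj (Omega.sheaf p)) LΩ) :
    FlatMod.IsFinLocFreeOfRank (m + r) (Omega.conormal i) ∧
      ∀ {LE : X.Modules}, ExtPow.IsExtPow (m + r) (Omega.conormal i) LE →
        Nonempty (LE ≅ CohB1.tensorMod LΩ LC) := by
  haveI := SmoothOfRelativeDimension.smooth m p
  haveI := qcoh_conormal i
  haveI := qcoh_conormal j
  haveI : (Omega.sheaf p).IsQuasicoherent := Omega57.isQuasicoherent_omega p
  haveI := QCPull72.isQuasicoherent_pullback i (Omega.sheaf p)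
  haveI := QCPull72.isQuasicoherent_pullback (𝟙 X) (Omega.conormal j)
  obtain ⟨φ, hφ⟩ := Rib52.exists_conormalDiff i (OmegaSh.dOmega p)
  obtain ⟨ψ, hψ, -⟩ := Om3.existsUnique_conormalMap (show 𝟙 X ≫ j = i ≫ p by rw [hij, Category.id_comp])
  obtain ⟨w, hS⟩ := S9711.result p i j hij (Omega.sheaf p) (OmegaSh.dOmega p) (Var76.OmegaUniv.isUniversal p)
    ψ hψ φ hφ
  let α := (Scheme.Modules.pullbackId X).app (Omega.conormal j)
  have hC : FlatMod.IsFinLocFreeOfRank r ((Scheme.Modules.pullback (𝟙 X)).obj (Omega.conormal j)) := fun x => by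
    obtain ⟨U, hx, ⟨e⟩⟩ := hj x
    exact ⟨U, hx, ⟨(Scheme.Modules.restrictFunctor U.ι).mapIso α ≪≫ e⟩⟩
  have hQ : FlatMod.IsFinLocFreeOfRank m ((Scheme.Modules.pullback i).obj (Omega.sheaf p)) :=
    isFinLocFreeOfRank_pullback i (Om3.TopForms.isFinLocFreeOfRank_omega p m)
  refine ⟨finLocFree_middle (ShortComplex.mk ψ φ w) hS hC hQ, fun hLE => ?_⟩
  exact Om3.DetSeq.nonempty_det_iso ψ φ w hS hC hQ (Om3.isExtPow_of_iso α.symm hLC) hLE hLΩ

end Groth.Agent.CAlg8.Canon
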