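import Groth.Agent.CAlg8.Canon.Comp
import Groth.Agent.Div89.RegFlat
import Groth.Agent.S3825

/-! The canonical sheaf under base change. -/

set_option autoImplicit false
set_option linter.style.haveILetI false
set_option backward.isDefEq.respectTransparency false

universe u

open CategoryTheory CategoryTheory.Limits AlgebraicGeometry TopologicalSpace Opposite TensorProduct RegImm

noncomputable section

namespace Groth.Agent.CAlg8.Canon

open Groth.Agent Div89.RegFlat RegImm10.Fpqc

section RelImm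

variable {X X' Z : Scheme.{u}}

/-- Base change of relatively quasi- and `H_1`-regular immersions. -/
theorem baseChange_rel_codim {S S' : Scheme.{u}} (f : X ⟶ S) (i : Z ⟶ X) (k : Kind) (hk : k = .quasi ∨ k = .h1)
    {d : ℕ} (hreg : IsRegularImmersionOfCodim k d i) (hflat : Flat (i ≫ f)) (g : S' ⟶ S) :
    IsRegularImmersionOfCodim k d (pullback.snd i (pullback.fst f g)) := by
  haveI := hreg.1
  let p := pullback.fst f g
  let q := pullback.snd f g
  haveI : IsImmersion (pullback.snd i p) := MorphismProperty.pullback_snd _ _ hreg.1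
  refine ⟨inferInstance, fun z => ?_⟩
  obtain ⟨⟨A, hA⟩, hzA, hcl, rs, hlen, hrs, hker⟩ := hreg.2 (pullback.fst i p z)
  -- shrink the base and the chart
  let s := f (i (pullback.fst i p z))
  obtain ⟨_, ⟨T, hT, rfl⟩, hsT, -⟩ :=
    S.isBasis_affineOpens.exists_subset_of_mem_open (Set.mem_univ s) isOpen_univ
  haveI := hcl
  obtain ⟨b, hb, hzb⟩ := hA.exists_basicOpen_le (V := f ⁻¹ᵁ T) ⟨i (pullback.fst i p z), hsT⟩ hzA
  have hseq := seq_res hA b rfl hk hrs
  have hkerA := ker_res (i := i) hA b rfl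
  rw [hker, Ideal.map_ofList] at hkerA
  haveI hclA := RegImmB94.isClosedImmersion_restrict_of_le i (X.basicOpen_le b)
  set rs' := rs.map (X.presheaf.map (homOfLE (X.basicOpen_le b)).op).hom
  have hAT : X.basicOpen b ≤ f ⁻¹ᵁ T := hb
  let x' := pullback.snd i p z
  have hx1 : p x' = i (pullback.fst i p z) := by
    rw [← Scheme.Hom.comp_apply, ← pullback.condition, Scheme.Hom.comp_apply]
  have hx2 : g (q x') = s := by
    rw [← Scheme.Hom.comp_apply, ← pullback.condition, Scheme.Hom.comp_apply]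
    exact congrArg f hx1
  obtain ⟨_, ⟨T', hT', rfl⟩, hsT', hTT⟩ :=
    S'.isBasis_affineOpens.exists_subset_of_mem_open (show q x' ∈ g ⁻¹ᵁ T from (show g (q x') ∈ T by rw [hx2]; exact hsT)) (g ⁻¹ᵁ T).isOpen
  have hTT : T' ≤ g ⁻¹ᵁ T := hTT
  obtain ⟨hW, e, he⟩ := chart' ((IsPullback.of_hasPullback f g)) hT hT' (hA.basicOpen b) hTT hAT rfl
  set W := p ⁻¹ᵁ X.basicOpen b ⊓ q ⁻¹ᵁ T'
  have hWp : W ≤ p ⁻¹ᵁ X.basicOpen b := inf_le_left
  have hzW : x' ∈ W := ⟨show p x' ∈ X.basicOpen b from hx1.symm ▸ hzb, hsT'⟩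
  letI := (g.appLE T T' hTT).hom.toAlgebra
  letI := (f.appLE T (X.basicOpen b) hAT).hom.toAlgebra
  letI := (q.appLE T' W inf_le_right).hom.toAlgebra
  have hflA : Module.Flat Γ(S, T) (Γ(X, X.basicOpen b) ⧸ Ideal.ofList rs') := by
    haveI := hflat
    have hB := RegImmB94.isAffineOpen_preimage_of_restrict i (hA.basicOpen b)
    have hs := RegImmB94.app_surjective_of_restrict i (hA.basicOpen b)
    have eB : i ⁻¹ᵁ X.basicOpen b ≤ (i ≫ f) ⁻¹ᵁ T := fun _ hy => hAT hy
    letI := ((i ≫ f).appLE T (i ⁻¹ᵁ X.basicOpen b) eB).hom.toAlgebra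
    haveI : Module.Flat Γ(S, T) Γ(Z, i ⁻¹ᵁ X.basicOpen b) := (i ≫ f).flat_appLE hT hB eB
    let φ : Γ(X, X.basicOpen b) →ₐ[Γ(S, T)] Γ(Z, i ⁻¹ᵁ X.basicOpen b) :=
      { (i.app (X.basicOpen b)).hom with
        commutes' := fun r => by
          show (f.appLE T (X.basicOpen b) hAT ≫ i.app (X.basicOpen b)) r = _
          rw [Scheme.Hom.app_eq_appLE, Scheme.Hom.appLE_comp_appLE]
          rfl }
    have hk' : RingHom.ker φ = Ideal.ofList rs' := hkerA
    exact Module.Flat.of_linearEquiv
      (((Ideal.quotientEquivAlgOfEq Γ(S, T) hk'.symm).trans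
        (Ideal.quotientKerAlgEquivOfSurjective (f := φ) hs)).toLinearEquiv)
  have hinc : (e.toRingEquiv : _ → _) ∘ (Algebra.TensorProduct.includeRight (R := Γ(S, T)) (A := Γ(S', T'))) =
      (p.appLE (X.basicOpen b) W hWp).hom := funext fun a => he a
  have hseq' := seq_equiv e.toRingEquiv hk (seq_baseChange (A' := Γ(S', T')) hk hseq hflA)
  rw [List.map_map, hinc] at hseq'
  obtain ⟨V, hVaff, hzV, hVW, hclV⟩ := exists_closed_affine (pullback.snd i p) z hzW
  obtain ⟨c, hc, hzc⟩ := hW.exists_basicOpen_le (V := V) ⟨x', hzV⟩ hzW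
  have hseq'' := seq_res hW c rfl hk hseq'
  refine ⟨⟨_, hW.basicOpen c⟩, hzc, RegImmB94.isClosedImmersion_restrict_of_le _ hc, _, (by simp [rs', hlen]), hseq'', ?_⟩
  have hle : (pullback f g).basicOpen c ≤ p ⁻¹ᵁ X.basicOpen b :=
    ((pullback f g).basicOpen_le c).trans hWp
  rw [ker_chart i p (hA.basicOpen b) (hW.basicOpen c) hle, hkerA, Ideal.map_ofList, List.map_map]
  simp only [rs', List.map_map]
  refine congrArg Ideal.ofList (List.map_congr_left fun a _ => ?_)
  simp only [Function.comp_apply]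
  generalize (X.presheaf.map (homOfLE (X.basicOpen_le b)).op).hom a = a
  exact congr($((p.appLE_map (V := W) hWp (homOfLE ((pullback f g).basicOpen_le c)).op).symm) a)

end RelImm

section BaseChange

open QC70 Om3

theorem exists_basis_conormal_quasi {X Y : Scheme.{u}} (i : Y ⟶ X) [QuasiCompact i] {U : X.Opens} (hU : IsAffineOpen U)
    (hP : IsAffineOpen (i ⁻¹ᵁ U)) (hsurj : Function.Surjective (i.app U)) {n : ℕ} (rs : Fin n → Γ(X, U))
    (hk : CAlgX.IsQuasiRegular rs) (hI : Ideal.span (Set.range rs) = RingHom.ker (i.app U).hom) :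
    Nonempty (Module.Basis (Fin n) Γ(Y, i ⁻¹ᵁ U) Γ(Omega.conormal i, i ⁻¹ᵁ U)) := by
  let I := RingHom.ker (i.app U).hom
  let f : Fin n → I := fun k => ⟨rs k, (hI ▸ Ideal.subset_span ⟨k, rfl⟩ : rs k ∈ RingHom.ker (i.app U).hom)⟩
  obtain ⟨hli, hsp⟩ := S3825.basis_of_quasiRegular I f hk hI
  let b := Module.Basis.mk hli hsp.ge
  have hb : ∀ k, b k = I.toCotangent (f k) := Module.Basis.mk_apply hli hsp.ge
  choose t ht using fun k => exists_sect_of_app_eq_zero i (W := U) (rs k) (f k).2
  let c : Fin n → Γ(Omega.conormal i, i ⁻¹ᵁ U) := fun k => OmegaSh.conormalSect i U (t k)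
  have hcomb : ∀ a : Fin n → Γ(X, U), ∑ k, i.app U (a k) • c k = OmegaSh.conormalSect i U (∑ k, a k • t k) := by
    intro a
    rw [map_sum]
    exact Finset.sum_congr rfl fun k _ => (conormalSect_smul i U _ _).symm
  have hsect : ∀ a : Fin n → Γ(X, U), OmegaSh.idealSect i.ker U (∑ k, a k • t k) = ∑ k, a k * rs k := fun a => by
    rw [map_sum]
    exact Finset.sum_congr rfl fun k _ => by rw [Omega57.idealSect_smul, ht]
  refine ⟨Module.Basis.mk (v := c) ?_ ?_⟩
  · rw [Fintype.linearIndependent_iff]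
    intro r hr k
    choose a ha using fun k => hsurj (r k)
    have h0 := hcomb a
    simp only [ha] at h0
    rw [hr] at h0
    have h1 := (conormalSect_eq_zero_iff i hU hP hsurj _).1 h0.symm
    rw [hsect] at h1
    have h2 : ∑ k, Ideal.Quotient.mk I (a k) • b k = 0 := by
      simp only [hb]
      have : I.toCotangent (∑ k, a k • f k) = 0 := (Ideal.toCotangent_eq_zero I _).2 (by simpa [f] using h1)
      rw [map_sum] at this
      rw [← this]
      refine Finset.sum_congr rfl fun k _ => ?_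
      rw [map_smul, ← Ideal.Quotient.algebraMap_eq, algebraMap_smul]
    have h3 := Fintype.linearIndependent_iff.1 b.linearIndependent _ h2 k
    rw [← ha k]
    exact Ideal.Quotient.eq_zero_iff_mem.1 h3
  · intro y _
    obtain ⟨s, rfl⟩ := conormalSect_surjective i hU hP hsurj y
    have hs : OmegaSh.idealSect i.ker U s ∈ Ideal.span (Set.range rs) := by
      rw [hI]; exact FlatMor67.app_idealSect i U s
    obtain ⟨a, ha⟩ := Ideal.mem_span_range_iff_exists_fun.1 hs
    rw [show s = ∑ k, a k • t k from Omega57.idealSect_injective _ _ (ha.symm.trans (hsect a).symm), ← hcomb a]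
    exact Submodule.sum_mem _ fun k _ => Submodule.smul_mem _ _ (Submodule.subset_span ⟨k, rfl⟩)

variable {X Y Y' Z : Scheme.{u}}

theorem isFinLocFreeOfRank_conormal_quasi {c : ℕ} (i : X ⟶ Z) [QuasiCompact i]
    (h : RegImm.IsRegularImmersionOfCodim .quasi c i) : FlatMod.IsFinLocFreeOfRank c (Omega.conormal i) := by
  haveI := qcoh_conormal i
  intro x
  obtain ⟨U, hx, hcl, rs, hlen, hreg, hker⟩ := h.2 x
  subst hlen
  have hP : IsAffineOpen (i ⁻¹ᵁ U.1) := by
    haveI : IsAffine (U.1 : Scheme.{u}) := U.2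
    exact isAffine_of_isAffineHom (i ∣_ U.1)
  have hI : Ideal.span (Set.range rs.get) = RingHom.ker (i.app U.1).hom := by
    rw [hker, Set.range_list_get]
  obtain ⟨b⟩ := exists_basis_conormal_quasi i U.2 hP
    (surjective_app_of_closedImmersion i U.1 hcl U.2 le_rfl) rs.get hreg hI
  exact ⟨i ⁻¹ᵁ U.1, hx, FlatMor68.LocFree.restrict_iso_free _ hP _ b.equivFun⟩

theorem regularImmersionOfCodim_iso_comp {X'' : Scheme.{u}} (e : X'' ⟶ X) [IsIso e] (j : X ⟶ Z) {k : RegImm.Kind}
    {c : ℕ} (h : RegImm.IsRegularImmersionOfCodim k c j) : RegImm.IsRegularImmersionOfCodim k c (e ≫ j) := by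
  haveI := h.1
  refine ⟨inferInstance, fun z => ?_⟩
  obtain ⟨U, hz, hcl, rs, hlen, hreg, hker⟩ := h.2 (e z)
  refine ⟨U, hz, ?_, rs, hlen, hreg, ?_⟩
  · haveI := hcl
    rw [morphismRestrict_comp]
    infer_instance
  · rw [← hker, Scheme.Hom.comp_app, CommRingCat.hom_comp]
    exact RingHom.ker_comp_of_injective _ (ConcreteCategory.bijective_of_isIso (e.app _)).1

theorem quasi_of_regular_codim {c : ℕ} (i : X ⟶ Z) (h : RegImm.IsRegularImmersionOfCodim .regular c i) :
    RegImm.IsRegularImmersionOfCodim .quasi c i :=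
  ⟨h.1, fun z => by
    obtain ⟨U, hz, hcl, rs, hlen, hreg, hker⟩ := h.2 z
    obtain ⟨h1, h2, h3⟩ := Div89.seq_implications rs
    exact ⟨U, hz, hcl, rs, hlen, h3 (h2 (h1 hreg)), hker⟩⟩

open Props58.LocFree in
/-- An epimorphism between locally free modules of the same rank is an isomorphism. -/
theorem isIso_of_epi_of_rank {n : ℕ} {M N : X.Modules} (hM : FlatMod.IsFinLocFreeOfRank n M)
    (hN : FlatMod.IsFinLocFreeOfRank n N) (φ : M ⟶ N) [Epi φ] : IsIso φ :=
  isIso_of_bijective_stalkMapM φ fun x => by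
    have key : ∀ {L : X.Modules}, FlatMod.IsFinLocFreeOfRank n L →
        Nonempty ((Fin n → X.presheaf.stalk x) ≃ₗ[X.presheaf.stalk x] L.presheaf.stalk x) := by
      intro L hL
      obtain ⟨U, hx, ⟨i⟩⟩ := hL x
      obtain ⟨s, hs⟩ := exists_stalkBasis_of_iso i
      let l : (Fin n → X.presheaf.stalk x) →ₗ[X.presheaf.stalk x] L.presheaf.stalk x :=
        Fintype.linearCombination (X.presheaf.stalk x) fun k => germM L U x hx (s k)
      refine ⟨LinearEquiv.ofBijective l ?_⟩
      rw [show (l : (Fin n → X.presheaf.stalk x) → L.presheaf.stalk x) = germComb s x hx from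
        funext fun c => by simp only [l, germComb, Fintype.linearCombination_apply]]
      exact hs x hx
    obtain ⟨a⟩ := key hM
    obtain ⟨b⟩ := key hN
    haveI : Module.Finite (X.presheaf.stalk x) (M.presheaf.stalk x) := Module.Finite.equiv a
    have hb : Function.Bijective ((b.symm.trans a).toLinearMap.comp (stalkLinear φ x)) :=
      OrzechProperty.bijective_of_surjective_endomorphism _
        ((b.symm.trans a).surjective.comp (surjective_stalkMapM_of_epi φ x))
    exact (Function.Bijective.of_comp_iff' (b.symm.trans a).bijective _).1 hb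

theorem nonempty_baseChange_iso {P : Scheme.{u}} (u' : Y' ⟶ Y) (i : X ⟶ P) (g : P ⟶ Y)
    [QuasiCompact i] [QuasiSeparated g] {c n : ℕ}
    (hi : RegImm.IsRegularImmersionOfCodim .regular c i) (hg : SmoothOfRelativeDimension n g)
    (hfl : Flat (i ≫ g) ∨ Flat u') {ω : X.Modules} (hω : Canon.IsCanonicalVia i g c n ω)
    {ω' : (pullback (i ≫ g) u').Modules} (hω' : Canon.IsCanonical (pullback.snd (i ≫ g) u') ω') :
    Nonempty (ω' ≅ (Scheme.Modules.pullback (pullback.fst (i ≫ g) u')).obj ω) := by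
  obtain ⟨P', i', g', c', n', hf', hi', hg', _, _, hv'⟩ := hω'
  haveI := hi.1; haveI := hi'.1
  obtain ⟨DC, DΩ, hDC, hDΩ, ⟨a⟩⟩ := hω
  let p := pullback.fst (i ≫ g) u'
  have outer := IsPullback.of_hasPullback (i ≫ g) u'
  have H := IsPullback.of_hasPullback g u'
  let t : pullback (i ≫ g) u' ⟶ pullback g u' := H.flip.lift (pullback.snd (i ≫ g) u') (p ≫ i)
    (by rw [Category.assoc]; exact pullback.condition.symm)
  have et : t ≫ pullback.snd g u' = pullback.snd _ _ := H.flip.lift_fst _ _ _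
  have hsq : IsPullback t p (pullback.fst g u') i := outer.flip.of_right' H.flip
  haveI : IsImmersion t := MorphismProperty.of_isPullback hsq.flip inferInstance
  haveI : QuasiCompact t := MorphismProperty.of_isPullback hsq.flip inferInstance
  haveI := qcoh_conormal i
  haveI := qcoh_conormal t
  haveI := SmoothOfRelativeDimension.smooth n g
  have hC := isFinLocFreeOfRank_conormal rfl i hi
  obtain ⟨φ, hφ, -⟩ := Om3.existsUnique_conormalMap (hsq.w.symm : p ≫ i = t ≫ pullback.fst g u')
  obtain ⟨he, hiso⟩ := Om3.epi_and_isIso hsq hφ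
  haveI := he
  have hpC := isFinLocFreeOfRank_pullback p hC
  haveI : IsIso φ := by
    rcases hfl with hf | hu
    · refine isIso_of_epi_of_rank hpC (isFinLocFreeOfRank_conormal_quasi t ?_) φ
      have h' := baseChange_rel_codim g i .quasi (Or.inl rfl) (quasi_of_regular_codim i hi) hf u'
      have hs := hsq.flip
      rw [← show hs.isoPullback.hom ≫ pullback.snd i (pullback.fst g u') = t from hs.isoPullback_hom_snd]
      exact regularImmersionOfCodim_iso_comp _ _ h'
    · haveI := hu
      exact hiso inferInstance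
  have hCt := isFinLocFreeOfRank_of_iso (asIso φ) hpC
  have hg₀ : SmoothOfRelativeDimension n (pullback.snd g u') :=
    (smoothOfRelativeDimension_isStableUnderBaseChange n).of_isPullback H hg
  obtain ⟨b⟩ := nonempty_iso_of_rank i' g' t (pullback.snd g u') (hf'.trans et.symm)
    (isFinLocFreeOfRank_conormal rfl i' hi') hg' hCt hg₀ hv'
    (show Canon.IsCanonicalVia t (pullback.snd g u') c n ((Scheme.Modules.pullback p).obj ω) from by
      obtain ⟨hωinv, hDCinv, -⟩ := isInvertible_of_via i g hC hg hDC hDΩ a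
      haveI := Amp73.isIso_pullTensHom p hωinv hDCinv
      exact ⟨_, _, Om3.isExtPow_of_iso (asIso φ) (Om3.isExtPow_pullback p hDC),
        Om3.isExtPow_omega_of_isPullback H hDΩ,
        ⟨(asIso (Amp73.pullTensHom p ω DC)).symm ≪≫ (Scheme.Modules.pullback p).mapIso a ≪≫
          (Scheme.Modules.pullbackComp p i).app DΩ ≪≫ (Scheme.Modules.pullbackCongr hsq.w.symm).app DΩ ≪≫
          ((Scheme.Modules.pullbackComp t (pullback.fst g u')).app DΩ).symm⟩⟩)
  exact ⟨b⟩

end BaseChange

end Groth.Agent.CAlg8.Canon
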