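import Groth.Prelude.Def_CohB1
import Groth.Agent.Approx60.ProjCharts
import Mathlib

/-! Projective space is smooth of relative dimension `n` over the base. -/

set_option autoImplicit false
set_option maxHeartbeats 400000
set_option backward.isDefEq.respectTransparency.types false
universe u

open CategoryTheory CategoryTheory.Limits AlgebraicGeometry
open HomogeneousLocalization

namespace Groth.Agent.CAlg8.Canon

open Groth.Agent

theorem isStandardSmooth_mvPolynomial (R : Type u) [CommRing R] (σ : Type) [Finite σ] :
    Algebra.IsStandardSmoothOfRelativeDimension (Nat.card σ) R (MvPolynomial σ R) := by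
  let P : Algebra.SubmersivePresentation R (MvPolynomial σ R) σ PEmpty.{1} :=
    { toGenerators := Algebra.Generators.mvPolynomial R σ
      relation := PEmpty.elim
      span_range_relation_eq_ker := by
        simp only [Set.range_eq_empty, Ideal.span_empty]
        refine (Algebra.Generators.ker_eq_ker_aeval_val _).trans ?_ |>.symm
        show RingHom.ker (MvPolynomial.aeval (R := R) (MvPolynomial.X : σ → MvPolynomial σ R)) = ⊥
        ext a
        simp
      map := PEmpty.elim
      map_inj := fun a => a.elim
      jacobian_isUnit := by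
        rw [Algebra.PreSubmersivePresentation.jacobian]
        rw [LinearMap.det_eq_one_of_subsingleton, map_one]
        exact isUnit_one }
  exact P.isStandardSmoothOfRelativeDimension (by simp [Algebra.Presentation.dimension])

open Approx60.ProjCharts in
/-- The coordinate ring of a standard chart is a polynomial ring in `n` variables. -/
theorem standardSmooth_const (k : Type u) [CommRing k] (n : ℕ) (j : Fin (n + 1)) :
    (const (k := k) (CohB1.ProjSpace n k) (U k n j)).IsStandardSmoothOfRelativeDimension n := by
  classical
  let c := const (k := k) (CohB1.ProjSpace n k) (U k n j)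
  let q := Proj.awayToSection (CohB1.polyGrading n k) (MvPolynomial.X j)
  let fr : Fin (n + 1) → Away (CohB1.polyGrading n k) (MvPolynomial.X j) := fun i => frac k n j (X₁ k n i)
  let π : MvPolynomial (Fin n) k →+* Γ(CohB1.ProjSpace n k, U k n j) :=
    MvPolynomial.eval₂Hom c (fun i => q (fr (j.succAbove i)))
  have hjj : fr j = 1 := HomogeneousLocalization.val_injective _ (by
    simp [fr, frac, X₁, HomogeneousLocalization.val_mk])
  have hsurj : Function.Surjective π := by
    intro x
    obtain ⟨p, rfl⟩ := exists_eval₂_eq k n j x
    refine ⟨MvPolynomial.eval₂Hom MvPolynomial.C (j.insertNth 1 MvPolynomial.X) p, ?_⟩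
    change (π.comp (MvPolynomial.eval₂Hom MvPolynomial.C (j.insertNth 1 MvPolynomial.X))) p =
      MvPolynomial.eval₂Hom c (fun i => q (fr i)) p
    refine RingHom.congr_fun (MvPolynomial.ringHom_ext (fun r => by simp [π]) fun i => ?_) p
    obtain rfl | ⟨l, rfl⟩ := Fin.eq_self_or_eq_succAbove j i <;> simp [π, hjj]
    all_goals rfl
  let φ := MvPolynomial.eval₂Hom (MvPolynomial.C : k →+* MvPolynomial (Fin n) k)
    (j.insertNth 1 MvPolynomial.X : Fin (n + 1) → MvPolynomial (Fin n) k)
  have hu : IsUnit (φ (MvPolynomial.X j)) := by simp [φ]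
  let ev := awayEval φ _ hu
  have hq : Function.Bijective q := ConcreteCategory.bijective_of_isIso
    (Proj.basicOpenIsoAway (CohB1.polyGrading n k) (MvPolynomial.X j) (X₁ k n j).2 one_pos).hom
  let cst : k →+* Away (CohB1.polyGrading n k) (MvPolynomial.X j) :=
    (fromZeroRingHom (CohB1.polyGrading n k) _).comp (algebraMap k (CohB1.polyGrading n k 0))
  have hcq : c = q.hom.comp cst := congrArg CommRingCat.Hom.hom (const_eq k n j)
  have hev : ev.comp (MvPolynomial.eval₂Hom cst fun i => fr (j.succAbove i)) = RingHom.id _ :=
    MvPolynomial.ringHom_ext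
      (fun r => by
        simp only [RingHom.comp_apply, MvPolynomial.eval₂Hom_C, RingHom.id_apply, cst]
        exact awayEval_const MvPolynomial.C (j.insertNth 1 MvPolynomial.X) (MvPolynomial.X j) hu r)
      (fun i => by
        simp only [RingHom.comp_apply, MvPolynomial.eval₂Hom_X', RingHom.id_apply, fr]
        exact (awayEval_frac MvPolynomial.C (j.insertNth 1 MvPolynomial.X) j (Fin.insertNth_apply_same ..) hu
          (j.succAbove i)).trans (Fin.insertNth_apply_succAbove ..))
  have hπ : ∀ x, π x = q.hom (MvPolynomial.eval₂Hom cst (fun i => fr (j.succAbove i)) x) := by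
    intro x
    simp only [π, hcq, MvPolynomial.coe_eval₂Hom]
    exact (MvPolynomial.eval₂_comp_left q.hom cst (fun i => fr (j.succAbove i)) x).symm
  have hinj : Function.Injective π := by
    intro x y h
    have := congrArg ev (hq.1 ((hπ x).symm.trans (h.trans (hπ y))))
    exact ((RingHom.congr_fun hev x).symm.trans this).trans (RingHom.congr_fun hev y)
  let : Algebra k Γ(CohB1.ProjSpace n k, U k n j) := c.toAlgebra
  let e : MvPolynomial (Fin n) k ≃ₐ[k] Γ(CohB1.ProjSpace n k, U k n j) :=
    AlgEquiv.ofRingEquiv (f := RingEquiv.ofBijective π ⟨hinj, hsurj⟩) fun r => by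
      simp [π, RingHom.algebraMap_toAlgebra]
  have h : Algebra.IsStandardSmoothOfRelativeDimension n k (MvPolynomial (Fin n) k) :=
    by simpa using isStandardSmooth_mvPolynomial k (Fin n)
  have h' := (RingHom.isStandardSmoothOfRelativeDimension_respectsIso (n := n)).1
    _ e.toRingEquiv ((RingHom.isStandardSmoothOfRelativeDimension_algebraMap _).2 h)
  rwa [show (e.toRingEquiv.toRingHom.comp (algebraMap k (MvPolynomial (Fin n) k))) = c from
    RingHom.ext fun r => e.commutes r] at h'

theorem smoothOfRelativeDimension_toSpec (n : ℕ) (R : Type u) [CommRing R] :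
    SmoothOfRelativeDimension n (CohB1.ProjSpace.toSpec n R) := by
  rw [IsZariskiLocalAtSource.iff_of_iSup_eq_top (P := @SmoothOfRelativeDimension n)
    (fun j => Approx60.ProjCharts.U R n j) (by
    rw [eq_top_iff]
    intro x _
    obtain ⟨j, hj⟩ := Approx60.ProjCharts.exists_mem_U R n x
    exact TopologicalSpace.Opens.mem_iSup.2 ⟨j, hj⟩)]
  intro j
  have hU := Approx60.ProjCharts.isAffineOpen_U R n j
  rw [← MorphismProperty.cancel_left_of_respectsIso (@SmoothOfRelativeDimension n) hU.isoSpec.inv,
    ← Category.assoc]
  have : SmoothOfRelativeDimension n (Spec.map (CommRingCat.ofHom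
      (Approx60.ProjCharts.const (k := R) (CohB1.ProjSpace n R) (Approx60.ProjCharts.U R n j)))) := by
    rw [HasRingHomProperty.Spec_iff (P := @SmoothOfRelativeDimension n)]
    exact RingHom.locally_of RingHom.isStandardSmoothOfRelativeDimension_respectsIso _
      (standardSmooth_const R n j)
  rwa [Approx60.ProjCharts.SpecMap_const hU] at this

theorem smoothOfRelativeDimension_toBase (n : ℕ) (S : Scheme.{u}) :
    SmoothOfRelativeDimension n (CohB1.ProjSpaceOver.toBase n S) :=
  (smoothOfRelativeDimension_isStableUnderBaseChange n).of_isPullback (IsPullback.of_hasPullback _ _)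
    (smoothOfRelativeDimension_toSpec n _)

end Groth.Agent.CAlg8.Canon
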