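import Groth.Agent.CAlg8.Canon.Indep
import Groth.Agent.S9372

/-! Canonical sheaves on the smooth locus, graphs. -/

set_option autoImplicit false
set_option linter.style.haveILetI false
set_option backward.isDefEq.respectTransparency false

universe u

open CategoryTheory CategoryTheory.Limits AlgebraicGeometry TopologicalSpace Opposite exteriorPower

noncomputable section

namespace Groth.Agent.CAlg8.Canon

open Groth.Agent QC70

variable {X Y Z : Scheme.{u}}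

theorem isExtPow_of_iso_right {p : ℕ} {E L L' : X.Modules} (α : L ≅ L') (h : ExtPow.IsExtPow p E L) :
    ExtPow.IsExtPow p E L' := by
  obtain ⟨φ, hφ⟩ := h
  let β : ∀ U : X.affineOpens, Γ(L', U.1) ≃ₗ[Γ(X, U.1)] Γ(L, U.1) := fun U =>
    LinearEquiv.ofLinear (appLinear α.inv U.1) (appLinear α.hom U.1)
      (LinearMap.ext fun x => congr($(congrArg (fun g : L ⟶ L => g.app U.1) α.hom_inv_id) x))
      (LinearMap.ext fun x => congr($(congrArg (fun g : L' ⟶ L' => g.app U.1) α.inv_hom_id) x))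
  refine ⟨fun U => (β U).trans (φ U), fun U V hV e => ?_⟩
  show res L' hV (α.hom.app U.1 ((φ U).symm _)) = α.hom.app V.1 ((φ V).symm _)
  rw [← hφ U V hV e]
  exact (app_res α.hom hV _).symm

/-- `⋀^0` of any module is the structure sheaf. -/
theorem isExtPow_zero (E : X.Modules) : ExtPow.IsExtPow 0 E (Coh.structureModule X) := by
  refine ⟨fun U => (exteriorPower.zeroEquiv Γ(X, U.1) Γ(E, U.1)).symm, fun U V hV e => ?_⟩
  show X.presheaf.map (homOfLE hV).op ((exteriorPower.zeroEquiv Γ(X, U.1) Γ(E, U.1)) (ιMulti _ 0 e)) =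
    (exteriorPower.zeroEquiv Γ(X, V.1) Γ(E, V.1)) (ιMulti _ 0 _)
  rw [exteriorPower.zeroEquiv_ιMulti, exteriorPower.zeroEquiv_ιMulti, map_one]

theorem finLocFree_conormal_id (X : Scheme.{u}) : FlatMod.IsFinLocFreeOfRank 0 (Omega.conormal (𝟙 X)) := by
  haveI := qcoh_conormal (𝟙 X)
  intro x
  obtain ⟨U, hU, hx, -⟩ := exists_isAffineOpen_mem_and_subset (x := x) (U := ⊤) trivial
  have hinj : RingHom.ker ((𝟙 X : X ⟶ X).app U).hom = ⊥ :=
    (RingHom.injective_iff_ker_eq_bot _).1 (ConcreteCategory.bijective_of_isIso ((𝟙 X : X ⟶ X).app U)).1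
  obtain ⟨b⟩ := Om3.exists_basis_conormal (𝟙 X) hU hU
    (ConcreteCategory.bijective_of_isIso ((𝟙 X : X ⟶ X).app U)).2 (Fin.elim0 : Fin 0 → Γ(X, U))
    (Koszul19.kR_of_isWeaklyRegular _ (RingTheory.Sequence.IsWeaklyRegular.nil _ _))
    (by rw [hinj]; simp)
  exact ⟨U, hx, FlatMor68.LocFree.restrict_iso_free (Omega.conormal (𝟙 X)) hU _ b.equivFun⟩

theorem isCanonicalVia_id (f : X ⟶ Y) (n : ℕ) {ω : X.Modules} (hω : ExtPow.IsExtPow n (Omega.sheaf f) ω) :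
    Canon.IsCanonicalVia (𝟙 X) f 0 n ω :=
  ⟨Coh.structureModule X, ω, isExtPow_zero _, hω,
    ⟨EGA73.tensUnitRight ω ≪≫ ((Scheme.Modules.pullbackId X).app ω).symm⟩⟩

theorem isInvertible_of_via (i : X ⟶ Z) (g : Z ⟶ Y) [QuasiCompact i] [QuasiSeparated g] {c n : ℕ}
    (hC : FlatMod.IsFinLocFreeOfRank c (Omega.conormal i)) (hg : SmoothOfRelativeDimension n g)
    {ω : X.Modules} {DC : X.Modules} {DΩ : Z.Modules} (hDC : ExtPow.IsExtPow c (Omega.conormal i) DC)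
    (hDΩ : ExtPow.IsExtPow n (Omega.sheaf g) DΩ)
    (a : CohB1.tensorMod ω DC ≅ (Scheme.Modules.pullback i).obj DΩ) :
    PicF.IsInvertible ω ∧ PicF.IsInvertible DC ∧ PicF.IsInvertible DΩ := by
  haveI := qcoh_conormal i
  haveI : (Omega.sheaf g).IsQuasicoherent := Omega57.isQuasicoherent_omega g
  have h1 := isInvertible_extPow hC hDC
  have h2 := isInvertible_extPow (Om3.TopForms.isFinLocFreeOfRank_omega g n) hDΩ
  obtain ⟨N, hN, ⟨e⟩⟩ := An92.InvMod.exists_inverse h1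
  refine ⟨EGA73.isInvertible_of_iso ?_ (EGA73.isInvertible_tensorMod (Amp73.isInvertible_pullback i h2) hN), h1, h2⟩
  exact EGA73.tensIso a.symm (Iso.refl N) ≪≫ EGA73.tensAssoc' _ _ _ ≪≫
    EGA73.tensIso (Iso.refl ω) (EGA73.tensComm _ _ ≪≫ e) ≪≫ EGA73.tensUnitRight ω

/-- On an open where the morphism is smooth, a canonical sheaf is the sheaf of top forms. -/
theorem isTopDiff_restrict (i : X ⟶ Z) (g : Z ⟶ Y) [IsImmersion i] [QuasiCompact i] [QuasiSeparated g]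
    {c n : ℕ} (hC : FlatMod.IsFinLocFreeOfRank c (Omega.conormal i)) (hg : SmoothOfRelativeDimension n g)
    {ω : X.Modules} (hω : Canon.IsCanonicalVia i g c n ω) (U : X.Opens) (d : ℕ)
    [hd : SmoothOfRelativeDimension d (U.ι ≫ i ≫ g)] [QuasiSeparated (U.ι ≫ i ≫ g)] :
    Canon.IsTopDiff (U.ι ≫ i ≫ g) d ((Scheme.Modules.pullback U.ι).obj ω) := by
  obtain ⟨W, hW, hWU⟩ := i.isEmbedding.isInducing.isOpen_iff.1 U.2
  obtain rfl : i ⁻¹ᵁ ⟨W, hW⟩ = U := Opens.ext hWU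
  let V : Z.Opens := ⟨W, hW⟩
  haveI : IsImmersion (i ∣_ V) := inferInstance
  haveI : QuasiCompact (i ∣_ V) := inferInstance
  haveI : QuasiSeparated (V.ι ≫ g) := inferInstance
  have hsq : IsPullback (i ∣_ V) (i ⁻¹ᵁ V).ι V.ι i := isPullback_morphismRestrict i V
  obtain ⟨φ, hφ, -⟩ := Om3.existsUnique_conormalMap hsq.w.symm
  haveI : IsIso φ := (S9372.result (i ∣_ V) i V.ι (i ⁻¹ᵁ V).ι hsq φ hφ).2 inferInstance
  have hC' : FlatMod.IsFinLocFreeOfRank c (Omega.conormal (i ∣_ V)) := fun x => by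
    obtain ⟨T, hx, ⟨e⟩⟩ := isFinLocFreeOfRank_pullback (i ⁻¹ᵁ V).ι hC x
    exact ⟨T, hx, ⟨(Scheme.Modules.restrictFunctor T.ι).mapIso (asIso φ).symm ≪≫ e⟩⟩
  haveI := qcoh_conormal i
  haveI : (Omega.sheaf g).IsQuasicoherent := Omega57.isQuasicoherent_omega g
  obtain ⟨DC, DΩ, hDC, hDΩ, ⟨a⟩⟩ := hω
  have hDCi := Om3.isExtPow_of_iso (asIso φ) (Om3.isExtPow_pullback (i ⁻¹ᵁ V).ι hDC)
  have hDΩi : ExtPow.IsExtPow n (Omega.sheaf (V.ι ≫ g)) ((Scheme.Modules.pullback V.ι).obj DΩ) :=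
    Om3.isExtPow_omega_of_etale (h := 𝟙 Y) (f' := V.ι ≫ g) (Category.comp_id _).symm hDΩ
  haveI hsm : SmoothOfRelativeDimension n (V.ι ≫ g) := by
    simpa using (inferInstance : SmoothOfRelativeDimension (0 + n) (V.ι ≫ g))
  haveI := Omega57.isQuasicoherent_omega ((i ⁻¹ᵁ V).ι ≫ i ≫ g)
  obtain ⟨ω₀, hω₀⟩ := FBase64.ExtPowExists.exists_isExtPow (E := Omega.sheaf ((i ⁻¹ᵁ V).ι ≫ i ≫ g)) (p := d)
  have hvia : Canon.IsCanonicalVia (i ∣_ V) (V.ι ≫ g) c n ((Scheme.Modules.pullback (i ⁻¹ᵁ V).ι).obj ω) := by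
    refine ⟨_, _, hDCi, hDΩi, ⟨?_⟩⟩
    obtain ⟨h1, h2, -⟩ := isInvertible_of_via i g hC hg hDC hDΩ a
    haveI := Amp73.isIso_pullTensHom (i ⁻¹ᵁ V).ι h1 h2
    exact (asIso (Amp73.pullTensHom _ ω DC)).symm ≪≫ (Scheme.Modules.pullback _).mapIso a ≪≫
      (Scheme.Modules.pullbackComp _ i).app DΩ ≪≫ (Scheme.Modules.pullbackCongr (morphismRestrict_ι i V).symm).app DΩ ≪≫
      ((Scheme.Modules.pullbackComp (i ∣_ V) V.ι).app DΩ).symm
  obtain ⟨e⟩ := nonempty_iso_of_rank (𝟙 _) ((i ⁻¹ᵁ V).ι ≫ i ≫ g) (i ∣_ V) (V.ι ≫ g)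
    (by rw [Category.id_comp, morphismRestrict_ι_assoc])
    (finLocFree_conormal_id _) hd hC' hsm (isCanonicalVia_id _ d hω₀) hvia
  exact isExtPow_of_iso_right e hω₀

theorem isIso_conormal_to_omega {n : ℕ} (i : X ⟶ Z) (p : Z ⟶ Y) (j : X ⟶ Y) [IsImmersion i] [IsImmersion j]
    [QuasiCompact i] [QuasiCompact j] [QuasiSeparated p] (hij : i ≫ p = j)
    (hp : SmoothOfRelativeDimension n p) (hj : FlatMod.IsFinLocFreeOfRank 0 (Omega.conormal j)) :
    Nonempty (Omega.conormal i ≅ (Scheme.Modules.pullback i).obj (Omega.sheaf p)) := by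
  haveI := SmoothOfRelativeDimension.smooth n p
  obtain ⟨φ, hφ⟩ := Rib52.exists_conormalDiff i (OmegaSh.dOmega p)
  obtain ⟨ψ, hψ, -⟩ := Om3.existsUnique_conormalMap (show 𝟙 X ≫ j = i ≫ p by rw [hij, Category.id_comp])
  obtain ⟨w, hS⟩ := S9711.result p i j hij (Omega.sheaf p) (OmegaSh.dOmega p) (Var76.OmegaUniv.isUniversal p)
    ψ hψ φ hφ
  have h0 : IsZero (Omega.conormal j) := by
    rw [IsZero.iff_id_eq_zero]
    ext T y
    refine section_ext (Omega.conormal j) _ _ fun x hx => ?_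
    obtain ⟨U, hU, hU'⟩ := Om3.DetSeq.exists_basis hj x
    obtain ⟨b⟩ := hU' (T ⊓ U) inf_le_right
    haveI : Subsingleton Γ(Omega.conormal j, T ⊓ U) := b.repr.injective.subsingleton
    exact ⟨T ⊓ U, inf_le_left, ⟨hx, hU⟩, Subsingleton.elim _ _⟩
  have hψ0 : ψ = 0 := ((Scheme.Modules.pullback (𝟙 X)).map_isZero h0).eq_of_src _ _
  haveI : Mono φ := (ShortComplex.exact_iff_mono _ hψ0).1 hS.exact
  haveI : Epi φ := hS.epi_g
  haveI := isIso_of_mono_of_epi φ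
  exact ⟨asIso φ⟩

/-- The conormal sheaf of a graph. -/
theorem isExtPow_conormal_graph {W : Scheme.{u}} {n : ℕ} (f : X ⟶ W) (g : W ⟶ Z) {P : Scheme.{u}}
    {p₁ : P ⟶ X} {p₂ : P ⟶ W} (sq : IsPullback p₁ p₂ (f ≫ g) g) (Γ' : X ⟶ P) (e₁ : Γ' ≫ p₁ = 𝟙 X)
    (e₂ : Γ' ≫ p₂ = f) [QuasiSeparated g] (hg : SmoothOfRelativeDimension n g)
    {ωW : W.Modules} (hω : ExtPow.IsExtPow n (Omega.sheaf g) ωW) :
    ExtPow.IsExtPow n (Omega.conormal Γ') ((Scheme.Modules.pullback f).obj ωW) := by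
  haveI : QuasiSeparated p₁ := MorphismProperty.of_isPullback sq.flip inferInstance
  have hp₁ : SmoothOfRelativeDimension n p₁ :=
    (smoothOfRelativeDimension_isStableUnderBaseChange n).of_isPullback sq.flip hg
  haveI : IsImmersion Γ' := by
    haveI : IsImmersion (Γ' ≫ p₁) := e₁ ▸ inferInstance
    exact IsImmersion.of_comp Γ' p₁
  haveI : QuasiCompact Γ' := by
    haveI : QuasiCompact (Γ' ≫ p₁) := e₁ ▸ inferInstance
    exact QuasiCompact.of_comp Γ' p₁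
  haveI : (Omega.sheaf p₁).IsQuasicoherent := Omega57.isQuasicoherent_omega p₁
  obtain ⟨α⟩ := isIso_conormal_to_omega Γ' p₁ (𝟙 X) e₁ hp₁ (finLocFree_conormal_id X)
  exact isExtPow_of_iso_right ((Scheme.Modules.pullbackComp Γ' p₂).app ωW ≪≫
      (Scheme.Modules.pullbackCongr e₂).app ωW)
    (Om3.isExtPow_of_iso α.symm (Om3.isExtPow_pullback Γ' (Om3.isExtPow_omega_of_isPullback sq.flip hω)))

end Groth.Agent.CAlg8.Canon
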