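import Groth.Agent.CAlg8.Canon.Indep
import Groth.Agent.CAlg8.Canon.Smooth
import Groth.Agent.CAlg8.Canon.ProjSmooth
import Groth.Agent.RegImm10.ConormalSES
import Groth.Agent.Div89.KoszulH1
import Groth.Agent.Om3.ConormalCart
import Groth.Agent.AlgSt88.ImmNoeth

/-! The canonical sheaf of a composition of local complete intersection morphisms. -/

set_option autoImplicit false
set_option linter.style.haveILetI false
set_option backward.isDefEq.respectTransparency false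

universe u

open CategoryTheory CategoryTheory.Limits AlgebraicGeometry TopologicalSpace Opposite

noncomputable section

namespace Groth.Agent.CAlg8.Canon

open Groth.Agent

variable {X Y Z W : Scheme.{u}}

theorem lciProp_of_regular {c : ℕ} (i : X ⟶ Z)
    (h : RegImm.IsRegularImmersionOfCodim .regular c i) : FlatMor68.KoszulCalc.lciProp i :=
  FlatMor68.KoszulCalc.lciProp_of_isRegularImmersion i ⟨h.1, fun z => by
    obtain ⟨U, hz, hcl, rs, -, hreg, hker⟩ := h.2 z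
    exact ⟨U, hz, hcl, rs, (Div89.seq_implications rs).1 hreg, hker⟩⟩

theorem lciProp_of_factor {c n : ℕ} {i : X ⟶ Z} {g : Z ⟶ Y}
    (hi : RegImm.IsRegularImmersionOfCodim .regular c i) (hg : SmoothOfRelativeDimension n g) :
    FlatMor68.KoszulCalc.lciProp (i ≫ g) :=
  haveI := SmoothOfRelativeDimension.smooth n g
  FlatMor68.KoszulCalc.lciProp_comp i g (lciProp_of_regular i hi) (FlatMor68.KoszulCalc.lciProp_smooth g)

theorem isFinLocFree_conormal_of_lci (i : X ⟶ Z) [IsImmersion i] [QuasiCompact i]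
    (h : FlatMor68.KoszulCalc.lciProp i) : FlatMod.IsFinLocFree (Omega.conormal i) := by
  haveI := qcoh_conormal i
  intro x
  obtain ⟨U, hx, hcl, rs, hreg, hker⟩ := (FlatMor68.KoszulCalc.isRegularImmersion_of_lciProp i h).2 x
  have hP : IsAffineOpen (i ⁻¹ᵁ U.1) := by
    haveI : IsAffine (U.1 : Scheme.{u}) := U.2
    exact isAffine_of_isAffineHom (i ∣_ U.1)
  have hI : Ideal.span (Set.range rs.get) = RingHom.ker (i.app U.1).hom := by
    rw [hker, Set.range_list_get]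
  obtain ⟨b⟩ := Om3.exists_basis_conormal i U.2 hP
    (surjective_app_of_closedImmersion i U.1 hcl U.2 le_rfl) rs.get
    (by rw [List.ofFn_get]; exact (Koszul19.kR_iff rs).2 hreg) hI
  exact ⟨i ⁻¹ᵁ U.1, rs.length, hx, FlatMor68.LocFree.restrict_iso_free _ hP _ b.equivFun⟩

/-- The kernel of a surjection of locally free modules has the difference of the ranks as rank. -/
theorem finLocFree_left {a b : ℕ} (S : ShortComplex X.Modules) (hS : S.ShortExact)
    [S.X₁.IsQuasicoherent] [S.X₂.IsQuasicoherent] [S.X₃.IsQuasicoherent]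
    (hC : FlatMod.IsFinLocFree S.X₁) (hE : FlatMod.IsFinLocFreeOfRank a S.X₂)
    (hQ : FlatMod.IsFinLocFreeOfRank b S.X₃) : FlatMod.IsFinLocFreeOfRank (a - b) S.X₁ := by
  intro x
  have := hS.mono_f
  obtain ⟨U, d, hU, ⟨i⟩⟩ := hC x
  obtain ⟨s, hs⟩ := Props58.LocFree.exists_stalkBasis_of_iso i
  obtain ⟨U₂, hU₂, hU₂'⟩ := Om3.DetSeq.exists_basis hE x
  obtain ⟨U₃, hU₃, hU₃'⟩ := Om3.DetSeq.exists_basis hQ x
  obtain ⟨V, hV, hxV, hle⟩ :=
    exists_isAffineOpen_mem_and_subset (show x ∈ U ⊓ (U₂ ⊓ U₃) from ⟨hU, hU₂, hU₃⟩)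
  obtain ⟨bE⟩ := hU₂' V fun y hy => (hle hy).2.1
  obtain ⟨bQ⟩ := hU₃' V fun y hy => (hle hy).2.2
  have hVU : V ≤ U := fun y hy => (hle hy).1
  let bC : Module.Basis (Fin d) Γ(X, V) Γ(S.X₁, V) := Module.Basis.ofEquivFun (LinearEquiv.ofBijective
    (Fintype.linearCombination Γ(X, V) fun j => QC70.res S.X₁ hVU (s j))
    ((congrArg Function.Bijective (funext fun r => by simp [Fintype.linearCombination_apply])).mp
      (hs.bijective hVU))).symm
  let f := QC70.appLinear S.f V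
  let g := QC70.appLinear S.g V
  have hf : Function.Injective f := QC70.app_injective_of_mono S.f V
  have hg : Function.Surjective g := QC70.app_surjective_of_isAffineOpen S hS hV
  have hfg : Function.Exact f g := fun x => ⟨fun hx => QC70.exists_app_eq_of_exact S hS.exact V x hx,
    fun ⟨y, hy⟩ => by rw [← hy]; exact congr($(congrArg (fun φ : S.X₁ ⟶ S.X₃ => φ.app V) S.zero) y)⟩
  haveI : Module.Projective Γ(X, V) Γ(S.X₃, V) := Module.Projective.of_basis bQ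
  obtain ⟨l, hl⟩ := Module.projective_lifting_property g LinearMap.id hg
  obtain ⟨e, -⟩ := (hfg.splitSurjectiveEquiv hf) ⟨l, hl⟩
  haveI : Nonempty V := ⟨⟨x, hxV⟩⟩
  have hd : a = d + b := by
    simpa using Fintype.card_congr (bE.indexEquiv ((bC.prod bQ).map e.symm))
  exact ⟨V, hxV, FlatMor68.LocFree.restrict_iso_free S.X₁ hV _ (bC.reindex (finCongr (by omega))).equivFun⟩

theorem isFinLocFreeOfRank_of_iso {n : ℕ} {M N : X.Modules} (α : M ≅ N)
    (h : FlatMod.IsFinLocFreeOfRank n M) : FlatMod.IsFinLocFreeOfRank n N := fun x => by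
  obtain ⟨U, hx, ⟨e⟩⟩ := h x
  exact ⟨U, hx, ⟨((Scheme.Modules.restrictFunctor U.ι).mapIso α).symm ≪≫ e⟩⟩

theorem isFinLocFree_of_iso {M N : X.Modules} (α : M ≅ N)
    (h : FlatMod.IsFinLocFree M) : FlatMod.IsFinLocFree N := fun x => by
  obtain ⟨U, n, hx, ⟨e⟩⟩ := h x
  exact ⟨U, n, hx, ⟨((Scheme.Modules.restrictFunctor U.ι).mapIso α).symm ≪≫ e⟩⟩

/-- The conormal sheaf of an lci immersion into a smooth scheme over the base has constant rank. -/
theorem finLocFree_conormal_factor {Z₁ Q : Scheme.{u}} (i₁ : X ⟶ Z₁) (g₁ : Z₁ ⟶ Y) (j : X ⟶ Q) (q : Q ⟶ Y)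
    [QuasiCompact i₁] [IsImmersion j] [QuasiCompact j] [QuasiSeparated g₁] [QuasiSeparated q]
    {c n m : ℕ} (hi : RegImm.IsRegularImmersionOfCodim .regular c i₁)
    (hg : SmoothOfRelativeDimension n g₁) (hq : SmoothOfRelativeDimension m q) (h : i₁ ≫ g₁ = j ≫ q) :
    FlatMor68.KoszulCalc.lciProp j ∧ FlatMod.IsFinLocFreeOfRank (m + c - n) (Omega.conormal j) := by
  haveI := SmoothOfRelativeDimension.smooth m q
  have hj : FlatMor68.KoszulCalc.lciProp j :=
    FlatMor68.KoszulCalc.lciProp_of_comp_smooth j q (h ▸ lciProp_of_factor hi hg)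
  refine ⟨hj, ?_⟩
  haveI := hi.1
  have hC₁ := isFinLocFreeOfRank_conormal rfl i₁ hi
  haveI := qcoh_conormal i₁
  haveI : (Omega.sheaf q).IsQuasicoherent := Omega57.isQuasicoherent_omega q
  obtain ⟨DC₁, hDC₁⟩ := FBase64.ExtPowExists.exists_isExtPow (E := Omega.conormal i₁) (p := c)
  obtain ⟨DQ, hDQ⟩ := FBase64.ExtPowExists.exists_isExtPow (E := Omega.sheaf q) (p := m)
  have sq := IsPullback.of_hasPullback g₁ q
  let t : X ⟶ pullback g₁ q := pullback.lift i₁ j h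
  have et : t ≫ pullback.snd g₁ q = j := pullback.lift_snd _ _ _
  obtain ⟨him, hqc, hT, -⟩ :=
    det_diag i₁ g₁ j q sq t (pullback.lift_fst _ _ _) et hq hC₁ hDC₁ hDQ
  haveI := him
  haveI := hqc
  let p := pullback.snd g₁ q
  have hp : SmoothOfRelativeDimension n p :=
    (smoothOfRelativeDimension_isStableUnderBaseChange n).of_isPullback sq hg
  haveI := SmoothOfRelativeDimension.smooth n p
  haveI := qcoh_conormal t
  haveI := qcoh_conormal j
  haveI : (Omega.sheaf p).IsQuasicoherent := Omega57.isQuasicoherent_omega p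
  haveI := QCPull72.isQuasicoherent_pullback t (Omega.sheaf p)
  haveI := QCPull72.isQuasicoherent_pullback (𝟙 X) (Omega.conormal j)
  obtain ⟨φ, hφ⟩ := Rib52.exists_conormalDiff t (OmegaSh.dOmega p)
  obtain ⟨ψ, hψ, -⟩ := Om3.existsUnique_conormalMap (show 𝟙 X ≫ j = t ≫ p by rw [et, Category.id_comp])
  obtain ⟨w, hS⟩ := S9711.result p t j et (Omega.sheaf p) (OmegaSh.dOmega p) (Var76.OmegaUniv.isUniversal p)
    ψ hψ φ hφ
  let α := (Scheme.Modules.pullbackId X).app (Omega.conormal j)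
  exact isFinLocFreeOfRank_of_iso α (finLocFree_left (ShortComplex.mk ψ φ w) hS
    (isFinLocFree_of_iso α.symm (isFinLocFree_conormal_of_lci j hj)) hT
    (isFinLocFreeOfRank_pullback t (Om3.TopForms.isFinLocFreeOfRank_omega p n)))

/-- The determinant of the conormal sheaf of a composite of immersions, the second obtained by base change. -/
theorem det_conormal_comp {Y' Q Q' : Scheme.{u}} (j : X ⟶ Q) (k : Q ⟶ Q') (v : Q ⟶ Y) (v' : Q' ⟶ Y')
    (i : Y ⟶ Y') [IsImmersion j] [QuasiCompact j] [IsImmersion k] [QuasiCompact k] [IsImmersion i] [QuasiCompact i]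
    [Flat v'] (sq : IsPullback k v v' i) (f : X ⟶ Y) (hf : j ≫ v = f) {d c : ℕ}
    (hj : FlatMor68.KoszulCalc.lciProp j) (hC : FlatMod.IsFinLocFreeOfRank d (Omega.conormal j))
    (hi : FlatMod.IsFinLocFreeOfRank c (Omega.conormal i)) {DCj DC : X.Modules} {Di : Y.Modules}
    (hDCj : ExtPow.IsExtPow d (Omega.conormal j) DCj) (hDi : ExtPow.IsExtPow c (Omega.conormal i) Di) :
    FlatMod.IsFinLocFreeOfRank (d + c) (Omega.conormal (j ≫ k)) ∧
      (ExtPow.IsExtPow (d + c) (Omega.conormal (j ≫ k)) DC →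
        Nonempty (DC ≅ CohB1.tensorMod DCj ((Scheme.Modules.pullback f).obj Di))) := by
  haveI := qcoh_conormal i
  haveI := qcoh_conormal j
  haveI := qcoh_conormal k
  haveI := qcoh_conormal (j ≫ k)
  obtain ⟨φ, hφ, -⟩ := Om3.existsUnique_conormalMap (sq.w.symm : v ≫ i = k ≫ v')
  haveI : IsIso φ := (Om3.epi_and_isIso sq hφ).2 inferInstance
  have hk : FlatMod.IsFinLocFreeOfRank c (Omega.conormal k) :=
    isFinLocFreeOfRank_of_iso (asIso φ) (isFinLocFreeOfRank_pullback v hi)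
  have hDk := Om3.isExtPow_pullback j (Om3.isExtPow_of_iso (asIso φ) (Om3.isExtPow_pullback v hDi))
  obtain ⟨φ₁, hφ₁, -⟩ := Om3.existsUnique_conormalMap (show j ≫ k = (j ≫ k) ≫ 𝟙 Q' by rw [Category.comp_id])
  obtain ⟨φ₂, hφ₂, -⟩ := Om3.existsUnique_conormalMap (show 𝟙 X ≫ j ≫ k = j ≫ k from Category.id_comp _)
  obtain ⟨w, hS⟩ := RegImm10.shortExact_conormal_immersions k j hj hφ₁ hφ₂
  haveI := QCPull72.isQuasicoherent_pullback j (Omega.conormal k)
  have hC' := isFinLocFreeOfRank_pullback j hk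
  refine ⟨finLocFree_middle (ShortComplex.mk _ _ w) hS hC' hC, fun hDC => ?_⟩
  obtain ⟨e⟩ := Om3.DetSeq.nonempty_det_iso _ _ w hS hC' hC hDk hDC hDCj
  exact ⟨e ≪≫ EGA73.tensIso (Iso.refl _) ((Scheme.Modules.pullbackComp j v).app Di ≪≫
    (Scheme.Modules.pullbackCongr hf).app Di)⟩

def shuffle4 (a b c d : X.Modules) :
    CohB1.tensorMod (CohB1.tensorMod a b) (CohB1.tensorMod c d) ≅
      CohB1.tensorMod (CohB1.tensorMod a c) (CohB1.tensorMod b d) :=
  EGA73.tensAssoc' _ _ _ ≪≫ EGA73.tensIso (Iso.refl a) ((EGA73.tensAssoc' _ _ _).symm ≪≫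
    EGA73.tensIso (EGA73.tensComm b c) (Iso.refl d) ≪≫ EGA73.tensAssoc' _ _ _) ≪≫ (EGA73.tensAssoc' _ _ _).symm

theorem nonempty_comp_iso {P₁ P₂ P₃ P Q : Scheme.{u}}
    (i₁ : X ⟶ P₁) (g₁ : P₁ ⟶ Y) (i₂ : Y ⟶ P₂) (g₂ : P₂ ⟶ Z) (i₃ : X ⟶ P₃) (g₃ : P₃ ⟶ Z)
    [QuasiCompact i₁] [QuasiCompact i₂] [QuasiCompact i₃] [QuasiSeparated g₁] [QuasiSeparated g₂]
    [QuasiSeparated g₃] (h : i₃ ≫ g₃ = (i₁ ≫ g₁) ≫ i₂ ≫ g₂) {c₁ n₁ c₂ n₂ c₃ n₃ m : ℕ}
    (hi₁ : RegImm.IsRegularImmersionOfCodim .regular c₁ i₁) (hg₁ : SmoothOfRelativeDimension n₁ g₁)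
    (hi₂ : RegImm.IsRegularImmersionOfCodim .regular c₂ i₂) (hg₂ : SmoothOfRelativeDimension n₂ g₂)
    (hi₃ : RegImm.IsRegularImmersionOfCodim .regular c₃ i₃) (hg₃ : SmoothOfRelativeDimension n₃ g₃)
    {qP : Q ⟶ P} {qY : Q ⟶ Y} (q : P ⟶ Z) [QuasiSeparated q] (hq : SmoothOfRelativeDimension m q)
    (sq : IsPullback qP qY q (i₂ ≫ g₂)) (j : X ⟶ Q) [IsImmersion j] [QuasiCompact j] (hj : j ≫ qY = i₁ ≫ g₁)
    {ω₁ ω₃ : X.Modules} {ω₂ : Y.Modules}
    (h₁ : Canon.IsCanonicalVia i₁ g₁ c₁ n₁ ω₁) (h₂ : Canon.IsCanonicalVia i₂ g₂ c₂ n₂ ω₂)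
    (h₃ : Canon.IsCanonicalVia i₃ g₃ c₃ n₃ ω₃) :
    Nonempty (ω₃ ≅ CohB1.tensorMod ω₁ ((Scheme.Modules.pullback (i₁ ≫ g₁)).obj ω₂)) := by
  rcases isEmpty_or_nonempty X with hX | hX
  · exact isIso_of_isEmpty _ _
  haveI := hi₂.1; haveI := hi₃.1
  set f := i₁ ≫ g₁ with hfdef
  haveI := SmoothOfRelativeDimension.smooth m q
  haveI : QuasiSeparated qY := MorphismProperty.of_isPullback sq inferInstance
  have hqY : SmoothOfRelativeDimension m qY :=
    (smoothOfRelativeDimension_isStableUnderBaseChange m).of_isPullback sq hq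
  obtain ⟨hjlci, hCj⟩ := finLocFree_conormal_factor i₁ g₁ j qY hi₁ hg₁ hqY hj.symm
  set d := m + c₁ - n₁
  obtain ⟨DC₂, DΩ₂, hDC₂, hDΩ₂, ⟨a₂⟩⟩ := h₂
  obtain ⟨DC₃, DΩ₃, hDC₃, hDΩ₃, ⟨a₃⟩⟩ := h₃
  haveI := qcoh_conormal j
  haveI : (Omega.sheaf q).IsQuasicoherent := Omega57.isQuasicoherent_omega q
  obtain ⟨DCj, hDCj⟩ := FBase64.ExtPowExists.exists_isExtPow (E := Omega.conormal j) (p := d)
  obtain ⟨DP, hDP⟩ := FBase64.ExtPowExists.exists_isExtPow (E := Omega.sheaf q) (p := m)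
  let P' := (Scheme.Modules.pullback (j ≫ qP)).obj DP
  -- `ω₁` through `X → Q → Y`
  obtain ⟨a₁⟩ : Nonempty (CohB1.tensorMod ω₁ DCj ≅ P') := by
    obtain ⟨N, -, ⟨eN⟩⟩ := An92.InvMod.exists_inverse (isInvertible_extPow hCj hDCj)
    have hDQ := Om3.isExtPow_omega_of_isPullback sq hDP
    let ω₁' := CohB1.tensorMod ((Scheme.Modules.pullback j).obj ((Scheme.Modules.pullback qP).obj DP)) N
    let a' : CohB1.tensorMod ω₁' DCj ≅ (Scheme.Modules.pullback j).obj ((Scheme.Modules.pullback qP).obj DP) :=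
      EGA73.tensAssoc' _ _ _ ≪≫ EGA73.tensIso (Iso.refl _) eN ≪≫ EGA73.tensUnitRight _
    haveI := hi₁.1
    obtain ⟨b⟩ := nonempty_iso_of_rank i₁ g₁ j qY hj.symm (isFinLocFreeOfRank_conormal rfl i₁ hi₁) hg₁ hCj hqY
      h₁ (show Canon.IsCanonicalVia j qY d m ω₁' from ⟨_, _, hDCj, hDQ, ⟨a'⟩⟩)
    exact ⟨EGA73.tensIso b (Iso.refl DCj) ≪≫ a' ≪≫ (Scheme.Modules.pullbackComp j qP).app DP⟩
  -- the auxiliary schemes
  have sqR := IsPullback.of_hasPullback g₃ g₂
  let r₁ : X ⟶ pullback g₃ g₂ := pullback.lift i₃ (f ≫ i₂) (by rw [Category.assoc]; exact h)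
  let a := pullback.fst g₃ g₂
  let b := pullback.snd g₃ g₂
  have hwr : (j ≫ qP) ≫ q = r₁ ≫ a ≫ g₃ := by
    rw [Category.assoc, sq.w, ← Category.assoc j, hj, ← Category.assoc r₁, pullback.lift_fst, h]
  let r : X ⟶ pullback q (a ≫ g₃) := pullback.lift (j ≫ qP) r₁ hwr
  let p := pullback.snd q (a ≫ g₃)
  have H := IsPullback.of_hasPullback q g₂
  let k : Q ⟶ pullback q g₂ := H.lift qP (qY ≫ i₂) (by rw [sq.w, Category.assoc])
  have hk : IsPullback k qY (pullback.snd q g₂) i₂ := sq.of_right' H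
  haveI : IsImmersion k := MorphismProperty.of_isPullback hk.flip inferInstance
  haveI : QuasiCompact k := MorphismProperty.of_isPullback hk.flip inferInstance
  let e : pullback q (a ≫ g₃) ⟶ pullback q g₂ := H.lift (pullback.fst q (a ≫ g₃)) (p ≫ b)
    (pullback.condition.trans ((congrArg (p ≫ ·) pullback.condition).trans (Category.assoc _ _ _).symm))
  have he : IsPullback e p (pullback.snd q g₂) b := by
    have outer : IsPullback (pullback.fst q (a ≫ g₃)) p q (b ≫ g₂) := by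
      have := IsPullback.of_hasPullback q (a ≫ g₃)
      rwa [show b ≫ g₂ = a ≫ g₃ from pullback.condition.symm]
    exact outer.of_right' H
  have hek : r ≫ e = j ≫ k := by
    refine H.hom_ext ?_ ?_
    · simp only [Category.assoc, e, k, H.lift_fst]
      exact pullback.lift_fst _ _ _
    · simp only [Category.assoc, e, k, H.lift_snd]
      rw [← Category.assoc r, show r ≫ p = r₁ from pullback.lift_snd _ _ _, pullback.lift_snd, reassoc_of% hj]
  have hout := he.flip.paste_horiz sqR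
  haveI : QuasiSeparated (pullback.snd q g₂ ≫ g₂) := inferInstance
  haveI : QuasiSeparated e := MorphismProperty.of_isPullback hout inferInstance
  have hesm : SmoothOfRelativeDimension n₃ e :=
    (smoothOfRelativeDimension_isStableUnderBaseChange n₃).of_isPullback hout hg₃
  have hp : SmoothOfRelativeDimension m p :=
    (smoothOfRelativeDimension_isStableUnderBaseChange m).of_isPullback (IsPullback.of_hasPullback q (a ≫ g₃)) hq
  have ha : SmoothOfRelativeDimension n₂ a :=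
    (smoothOfRelativeDimension_isStableUnderBaseChange n₂).of_isPullback sqR.flip hg₂
  haveI : IsImmersion r₁ := by
    haveI : IsImmersion (r₁ ≫ a) := by rw [pullback.lift_fst]; infer_instance
    exact IsImmersion.of_comp r₁ a
  haveI : QuasiCompact r₁ := by
    haveI : QuasiCompact (r₁ ≫ a) := by rw [pullback.lift_fst]; infer_instance
    exact QuasiCompact.of_comp r₁ a
  haveI : IsImmersion r := by
    haveI : IsImmersion (r ≫ p) := by rw [pullback.lift_snd]; infer_instance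
    exact IsImmersion.of_comp r p
  haveI : QuasiCompact r := by
    haveI : QuasiCompact (r ≫ p) := by rw [pullback.lift_snd]; infer_instance
    exact QuasiCompact.of_comp r p
  haveI := qcoh_conormal r₁
  haveI := qcoh_conormal r
  haveI : (Omega.sheaf a).IsQuasicoherent := Omega57.isQuasicoherent_omega a
  haveI : (Omega.sheaf p).IsQuasicoherent := Omega57.isQuasicoherent_omega p
  haveI : (Omega.sheaf e).IsQuasicoherent := Omega57.isQuasicoherent_omega e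
  let F₂ := (Scheme.Modules.pullback f).obj ((Scheme.Modules.pullback i₂).obj DΩ₂)
  let G := (Scheme.Modules.pullback f).obj DC₂
  -- `X → R₁ → P₃`
  obtain ⟨hR₁, hdR₁⟩ := det_conormal r₁ a i₃ (pullback.lift_fst _ _ _) ha (isFinLocFreeOfRank_conormal rfl i₃ hi₃)
    hDC₃ (Om3.isExtPow_pullback r₁ (Om3.isExtPow_omega_of_isPullback sqR.flip hDΩ₂))
  obtain ⟨L₁, hL₁⟩ := FBase64.ExtPowExists.exists_isExtPow (E := Omega.conormal r₁) (p := n₂ + c₃)
  obtain ⟨u₁⟩ := hdR₁ hL₁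
  have u₁' : Nonempty (L₁ ≅ CohB1.tensorMod F₂ DC₃) :=
    ⟨u₁ ≪≫ EGA73.tensIso ((Scheme.Modules.pullbackComp r₁ b).app DΩ₂ ≪≫
      (Scheme.Modules.pullbackCongr (pullback.lift_snd _ _ _)).app DΩ₂ ≪≫
      ((Scheme.Modules.pullbackComp f i₂).app DΩ₂).symm) (Iso.refl _)⟩
  -- `X → R → R₁`
  obtain ⟨hR, hdR⟩ := det_conormal r p r₁ (pullback.lift_snd _ _ _) hp hR₁ hL₁
    (Om3.isExtPow_pullback r (Om3.isExtPow_omega_of_isPullback (IsPullback.of_hasPullback q (a ≫ g₃)) hDP))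
  obtain ⟨LE, hLE⟩ := FBase64.ExtPowExists.exists_isExtPow (E := Omega.conormal r) (p := m + (n₂ + c₃))
  obtain ⟨u⟩ := hdR hLE
  obtain ⟨u₁'⟩ := u₁'
  let uA : LE ≅ CohB1.tensorMod (CohB1.tensorMod ω₁ DCj) (CohB1.tensorMod F₂ DC₃) :=
    u ≪≫ EGA73.tensIso ((Scheme.Modules.pullbackComp r (pullback.fst q (a ≫ g₃))).app DP ≪≫
      (Scheme.Modules.pullbackCongr (pullback.lift_fst _ _ _)).app DP ≪≫ a₁.symm) u₁'
  -- `X → R → Q'`
  haveI : QuasiCompact (j ≫ k) := inferInstance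
  haveI := qcoh_conormal (j ≫ k)
  have hi₂C := isFinLocFreeOfRank_conormal rfl i₂ hi₂
  obtain ⟨Djj, hDjj⟩ := FBase64.ExtPowExists.exists_isExtPow (E := Omega.conormal (j ≫ k)) (p := d + c₂)
  haveI : Smooth (pullback.snd q g₂) := inferInstance
  obtain ⟨hjj, hdjj⟩ := det_conormal_comp (DC := Djj) j k qY (pullback.snd q g₂) i₂ hk f hj hjlci hCj hi₂C hDCj hDC₂
  obtain ⟨ujj⟩ := hdjj hDjj
  obtain ⟨hR', hdR'⟩ := det_conormal r e (j ≫ k) hek hesm hjj hDjj
    (Om3.isExtPow_pullback r (Om3.isExtPow_omega_of_isPullback hout hDΩ₃))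
  have hrank : n₃ + (d + c₂) = m + (n₂ + c₃) := finrank_eq_of_locFree hR' hR
  obtain ⟨v⟩ := hdR' (hrank ▸ hLE)
  let uB : LE ≅ CohB1.tensorMod (CohB1.tensorMod ω₃ DC₃) (CohB1.tensorMod DCj G) :=
    v ≪≫ EGA73.tensIso ((Scheme.Modules.pullbackComp r (p ≫ a)).app DΩ₃ ≪≫
      (Scheme.Modules.pullbackCongr (by
        rw [← Category.assoc, pullback.lift_snd, pullback.lift_fst] : r ≫ p ≫ a = i₃)).app DΩ₃ ≪≫ a₃.symm) ujj
  -- cancellation
  obtain ⟨h₂ω, h₂C, -⟩ := isInvertible_of_via i₂ g₂ hi₂C hg₂ hDC₂ hDΩ₂ a₂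
  obtain ⟨-, h₃C, -⟩ := isInvertible_of_via i₃ g₃ (isFinLocFreeOfRank_conormal rfl i₃ hi₃) hg₃ hDC₃ hDΩ₃ a₃
  haveI := Amp73.isIso_pullTensHom f h₂ω h₂C
  let W₂ := (Scheme.Modules.pullback f).obj ω₂
  let β : F₂ ≅ CohB1.tensorMod W₂ G :=
    (Scheme.Modules.pullback f).mapIso a₂.symm ≪≫ asIso (Amp73.pullTensHom f ω₂ DC₂)
  have hD : PicF.IsInvertible (CohB1.tensorMod G (CohB1.tensorMod DCj DC₃)) :=
    EGA73.isInvertible_tensorMod (Amp73.isInvertible_pullback f h₂C)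
      (EGA73.isInvertible_tensorMod (isInvertible_extPow hCj hDCj) h₃C)
  refine nonempty_iso_of_tensor_right hD ?_
  exact EGA73.tensIso (Iso.refl ω₃) ((EGA73.tensAssoc' _ _ _).symm ≪≫
      EGA73.tensIso (EGA73.tensComm G DCj) (Iso.refl DC₃) ≪≫ EGA73.tensComm _ _) ≪≫
    (EGA73.tensAssoc' _ _ _).symm ≪≫ uB.symm ≪≫ uA ≪≫
    EGA73.tensIso (Iso.refl _) (EGA73.tensIso β (Iso.refl DC₃)) ≪≫ shuffle4 _ _ _ _ ≪≫
    EGA73.tensIso (EGA73.tensAssoc' ω₁ W₂ G).symm (Iso.refl _) ≪≫ EGA73.tensAssoc' _ _ _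

end Groth.Agent.CAlg8.Canon
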