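import Groth.Agent.CAlg8.Canon.BaseChange
import Groth.Agent.An92.Nrm.RegIdeal
import Groth.Agent.Theta99.KL
import Groth.Agent.FlatMor67.GenericFibre
import Groth.Prelude.Def_Dual3

/-! The canonical sheaf on the generic fibre. -/

set_option autoImplicit false
set_option linter.style.haveILetI false
set_option backward.isDefEq.respectTransparency false

universe u

open CategoryTheory CategoryTheory.Limits AlgebraicGeometry TopologicalSpace Opposite

noncomputable section

namespace Groth.Agent.CAlg8.Canon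

open Groth.Agent

variable {X Y Z : Scheme.{u}}

theorem lciProp_of_isLCIMor {f : X ⟶ Y} (h : Dual3.IsLCIMor f) : FlatMor68.KoszulCalc.lciProp f := by
  rw [HasRingHomProperty.iff_exists_appLE (P := FlatMor68.KoszulCalc.lciProp.{u}) (FlatMor68.LCICalc.lciHom_source)]
  intro x
  obtain ⟨U, V, e, hx, hs⟩ := h x
  exact ⟨V, U, hx, e, hs⟩

/-- A locally free module on an irreducible scheme has constant rank. -/
theorem exists_rank_of_isFinLocFree [PreirreducibleSpace X] {M : X.Modules} (h : FlatMod.IsFinLocFree M) :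
    ∃ d : ℕ, FlatMod.IsFinLocFreeOfRank d M := by
  rcases isEmpty_or_nonempty X with hX | hX
  · exact ⟨0, fun x => isEmptyElim x⟩
  obtain ⟨x₀⟩ := hX
  obtain ⟨U₀, d, hx₀, ⟨i₀⟩⟩ := h x₀
  refine ⟨d, fun x => ?_⟩
  obtain ⟨U, n, hx, ⟨i⟩⟩ := h x
  obtain ⟨y, hy₀, hy⟩ := nonempty_preirreducible_inter U₀.isOpen U.isOpen ⟨x₀, hx₀⟩ ⟨x, hx⟩
  obtain ⟨V, hV, hyV, hle⟩ := exists_isAffineOpen_mem_and_subset (show y ∈ U₀ ⊓ U from ⟨hy₀, hy⟩)
  obtain ⟨s₀, hs₀⟩ := Props58.LocFree.exists_stalkBasis_of_iso i₀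
  obtain ⟨s, hs⟩ := Props58.LocFree.exists_stalkBasis_of_iso i
  have b₀ : Module.Basis (Fin d) Γ(X, V) Γ(M, V) := Module.Basis.ofEquivFun (LinearEquiv.ofBijective
    (Fintype.linearCombination Γ(X, V) fun j => QC70.res M (fun z hz => (hle hz).1) (s₀ j))
    ((congrArg Function.Bijective (funext fun r => by simp [Fintype.linearCombination_apply])).mp
      (hs₀.bijective (fun z hz => (hle hz).1)))).symm
  have b : Module.Basis (Fin n) Γ(X, V) Γ(M, V) := Module.Basis.ofEquivFun (LinearEquiv.ofBijective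
    (Fintype.linearCombination Γ(X, V) fun j => QC70.res M (fun z hz => (hle hz).2) (s j))
    ((congrArg Function.Bijective (funext fun r => by simp [Fintype.linearCombination_apply])).mp
      (hs.bijective (fun z hz => (hle hz).2)))).symm
  haveI : Nonempty V := ⟨⟨y, hyV⟩⟩
  have : n = d := by simpa using Fintype.card_congr (b.indexEquiv b₀)
  subst this
  exact ⟨U, hx, ⟨i⟩⟩

/-- A Koszul regular immersion into a locally Noetherian scheme with conormal sheaf of rank `d` is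
regular of codimension `d`. -/
theorem regular_codim_of_koszul [IsLocallyNoetherian Z] {d : ℕ} (i : X ⟶ Z) [QuasiCompact i]
    (h : RegImm.IsRegularImmersion .koszul i) (hd : FlatMod.IsFinLocFreeOfRank d (Omega.conormal i)) :
    RegImm.IsRegularImmersionOfCodim .regular d i := by
  haveI := h.1
  haveI := qcoh_conormal i
  have hq : RegImm.IsRegularImmersion .quasi i := ⟨h.1, fun z => by
    obtain ⟨U, hz, hcl, rs, hreg, hker⟩ := h.2 z
    obtain ⟨-, h2, h3⟩ := Div89.seq_implications rs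
    exact ⟨U, hz, hcl, rs, h3 (h2 hreg), hker⟩⟩
  refine ⟨h.1, fun z => ?_⟩
  obtain ⟨U, hz, hcl, rs, hreg, hker⟩ := ((An92.Nrm.isRegularImmersion_regular_iff_quasi i).2 hq).2 z
  refine ⟨U, hz, hcl, rs, ?_, hreg, hker⟩
  have hP : IsAffineOpen (i ⁻¹ᵁ U.1) := by
    haveI : IsAffine (U.1 : Scheme.{u}) := U.2
    exact isAffine_of_isAffineHom (i ∣_ U.1)
  have hI : Ideal.span (Set.range rs.get) = RingHom.ker (i.app U.1).hom := by
    rw [hker, Set.range_list_get]
  obtain ⟨b⟩ := Om3.exists_basis_conormal i U.2 hP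
    (surjective_app_of_closedImmersion i U.1 hcl U.2 le_rfl) rs.get
    (by rw [List.ofFn_get]; exact Koszul19.kR_of_isWeaklyRegular _ hreg.toIsWeaklyRegular) hI
  obtain ⟨O, hzO, hO⟩ := Om3.DetSeq.exists_basis hd z
  obtain ⟨V, hV, hzV, hle⟩ := exists_isAffineOpen_mem_and_subset (show z ∈ i ⁻¹ᵁ U.1 ⊓ O from ⟨hz, hzO⟩)
  obtain ⟨b₁, -⟩ := Om3.DetSeq.exists_basis_res (W := ⟨_, hP⟩) b (V := V) (fun y hy => (hle hy).1)
  obtain ⟨b₂⟩ := hO V fun y hy => (hle hy).2
  haveI : Nonempty V := ⟨⟨z, hzV⟩⟩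
  simpa using Fintype.card_congr (b₁.indexEquiv b₂)

theorem isFinLocFreeOfRank_conormal_openImmersion (ι : X ⟶ Y) [IsOpenImmersion ι] [QuasiCompact ι] :
    FlatMod.IsFinLocFreeOfRank 0 (Omega.conormal ι) := by
  have sq : IsPullback (𝟙 X) (𝟙 X) ι ι := IsKernelPair.id_of_mono ι
  obtain ⟨φ, hφ, -⟩ := Om3.existsUnique_conormalMap (sq.w.symm : 𝟙 X ≫ ι = 𝟙 X ≫ ι)
  haveI : IsIso φ := (Om3.epi_and_isIso sq hφ).2 inferInstance
  exact isFinLocFreeOfRank_of_iso ((asIso φ).symm ≪≫ (Iso.refl _))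
    (finLocFree_conormal_id X) |> fun h => isFinLocFreeOfRank_of_iso
      ((Scheme.Modules.pullbackId X).app (Omega.conormal ι)) h

/-- Restriction of a factorisation to an open subscheme. -/
theorem isCanonicalVia_restrict {S : Scheme.{u}} (i : X ⟶ Z) (g : Z ⟶ S) [IsImmersion i] [QuasiCompact i]
    [QuasiSeparated g] (ι : Y ⟶ X) [IsOpenImmersion ι] [QuasiCompact ι] {c n : ℕ}
    (hC : FlatMod.IsFinLocFreeOfRank c (Omega.conormal i)) (hg : SmoothOfRelativeDimension n g)
    {ω : X.Modules} (hω : Canon.IsCanonicalVia i g c n ω) :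
    FlatMod.IsFinLocFreeOfRank c (Omega.conormal (ι ≫ i)) ∧
      Canon.IsCanonicalVia (ι ≫ i) g c n ((Scheme.Modules.pullback ι).obj ω) := by
  haveI := qcoh_conormal i
  haveI := qcoh_conormal ι
  haveI := qcoh_conormal (ι ≫ i)
  obtain ⟨DC, DΩ, hDC, hDΩ, ⟨a⟩⟩ := hω
  obtain ⟨φ₁, hφ₁, -⟩ := Om3.existsUnique_conormalMap (show ι ≫ i = (ι ≫ i) ≫ 𝟙 Z by rw [Category.comp_id])
  obtain ⟨φ₂, hφ₂, -⟩ := Om3.existsUnique_conormalMap (show 𝟙 Y ≫ ι ≫ i = ι ≫ i from Category.id_comp _)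
  obtain ⟨w, hS⟩ := RegImm10.shortExact_conormal_immersions i ι
    (FlatMor68.KoszulCalc.lciProp_smooth ι) hφ₁ hφ₂
  haveI := QCPull72.isQuasicoherent_pullback ι (Omega.conormal i)
  have h0 := isFinLocFreeOfRank_conormal_openImmersion ι
  have hC' := isFinLocFreeOfRank_pullback ι hC
  have hmid := finLocFree_middle (ShortComplex.mk _ _ w) hS hC' h0
  rw [Nat.zero_add] at hmid
  refine ⟨hmid, ?_⟩
  obtain ⟨D0, hD0⟩ := FBase64.ExtPowExists.exists_isExtPow (E := Omega.conormal ι) (p := 0)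
  obtain ⟨D, hD⟩ := FBase64.ExtPowExists.exists_isExtPow (E := Omega.conormal (ι ≫ i)) (p := c)
  obtain ⟨e⟩ := Om3.DetSeq.nonempty_det_iso _ _ w hS hC' h0 (Om3.isExtPow_pullback ι hDC)
    (show ExtPow.IsExtPow (0 + c) (Omega.conormal (ι ≫ i)) D by rwa [Nat.zero_add]) hD0
  obtain ⟨e₀⟩ : Nonempty (D0 ≅ Coh.structureModule Y) :=
    ⟨FBase64.ExtPowExists.nonempty_iso_of_isExtPow hD0 (isExtPow_zero _) |>.some⟩
  obtain ⟨hωinv, hDCinv, -⟩ := isInvertible_of_via i g hC hg hDC hDΩ a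
  haveI := Amp73.isIso_pullTensHom ι hωinv hDCinv
  exact ⟨D, DΩ, hD, hDΩ, ⟨EGA73.tensIso (Iso.refl _) (e ≪≫ EGA73.tensIso e₀ (Iso.refl _) ≪≫
    EGA73.tensComm _ _ ≪≫ EGA73.tensUnitRight _) ≪≫ (asIso (Amp73.pullTensHom ι ω DC)).symm ≪≫
    (Scheme.Modules.pullback ι).mapIso a ≪≫ (Scheme.Modules.pullbackComp ι i).app DΩ⟩⟩

/-- The fibre at a field-valued flat point of a base embedded in a smooth scheme. -/
theorem isCanonical_fibre {U A S P : Scheme.{u}} {k : Type u} [Field k] [PreirreducibleSpace X]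
    [PreirreducibleSpace U] [IsLocallyNoetherian S]
    (i : X ⟶ Z) (g : Z ⟶ S) [IsImmersion i] [QuasiCompact i] [QuasiSeparated g] {c n : ℕ}
    (hC : FlatMod.IsFinLocFreeOfRank c (Omega.conormal i)) (hg : SmoothOfRelativeDimension n g)
    (π : X ⟶ U) (hπ : FlatMor68.KoszulCalc.lciProp π)
    (e : U ⟶ A) (q : A ⟶ S) [IsImmersion e] [QuasiCompact e] [QuasiSeparated q] {m : ℕ}
    (hq : SmoothOfRelativeDimension m q) (he : FlatMor68.KoszulCalc.lciProp (e ≫ q))
    (h : i ≫ g = π ≫ e ≫ q)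
    (s : Spec (CommRingCat.of k) ⟶ U) [Flat s] {pX : P ⟶ X} {v : P ⟶ Spec (CommRingCat.of k)}
    (sq : IsPullback pX v π s) {ω : X.Modules} (hω : Canon.IsCanonicalVia i g c n ω) :
    Canon.IsCanonical v ((Scheme.Modules.pullback pX).obj ω) := by
  obtain ⟨DC, DΩ, hDC, hDΩ, ⟨a⟩⟩ := hω
  haveI := qcoh_conormal i
  haveI := qcoh_conormal e
  haveI := SmoothOfRelativeDimension.smooth m q
  haveI := SmoothOfRelativeDimension.smooth n g
  obtain ⟨r, hCe⟩ := exists_rank_of_isFinLocFree (isFinLocFree_conormal_of_lci e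
    (FlatMor68.KoszulCalc.lciProp_of_comp_smooth e q he))
  have H := IsPullback.of_hasPullback g (e ≫ q)
  let j : X ⟶ pullback g (e ≫ q) := pullback.lift i π h
  haveI : IsImmersion j := by
    haveI : IsImmersion (j ≫ pullback.fst g (e ≫ q)) := by rw [pullback.lift_fst]; infer_instance
    exact IsImmersion.of_comp j (pullback.fst g (e ≫ q))
  haveI : QuasiCompact j := by
    haveI : QuasiCompact (j ≫ pullback.fst g (e ≫ q)) := by rw [pullback.lift_fst]; infer_instance
    exact QuasiCompact.of_comp j (pullback.fst g (e ≫ q))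
  haveI := qcoh_conormal j
  have hjlci : FlatMor68.KoszulCalc.lciProp j :=
    FlatMor68.KoszulCalc.lciProp_of_comp_smooth j (pullback.snd g (e ≫ q)) (by rwa [pullback.lift_snd])
  obtain ⟨d, hCj⟩ := exists_rank_of_isFinLocFree (isFinLocFree_conormal_of_lci j hjlci)
  obtain ⟨DCj, hDCj⟩ := FBase64.ExtPowExists.exists_isExtPow (E := Omega.conormal j) (p := d)
  obtain ⟨De, hDe⟩ := FBase64.ExtPowExists.exists_isExtPow (E := Omega.conormal e) (p := r)
  haveI : (Omega.sheaf q).IsQuasicoherent := Omega57.isQuasicoherent_omega q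
  obtain ⟨DA, hDA⟩ := FBase64.ExtPowExists.exists_isExtPow (E := Omega.sheaf q) (p := m)
  have HT := IsPullback.of_hasPullback g q
  let k₀ : pullback g (e ≫ q) ⟶ pullback g q :=
    HT.lift (pullback.fst g (e ≫ q)) (pullback.snd g (e ≫ q) ≫ e) (by rw [H.w, Category.assoc])
  have hk : IsPullback k₀ (pullback.snd g (e ≫ q)) (pullback.snd g q) e := H.of_right' HT
  haveI : IsImmersion k₀ := MorphismProperty.of_isPullback hk.flip inferInstance
  haveI : QuasiCompact k₀ := MorphismProperty.of_isPullback hk.flip inferInstance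
  haveI := qcoh_conormal (j ≫ k₀)
  obtain ⟨Dt, hDt⟩ := FBase64.ExtPowExists.exists_isExtPow (E := Omega.conormal (j ≫ k₀)) (p := d + r)
  obtain ⟨hR, hdt⟩ := det_conormal_comp (DC := Dt) j k₀ (pullback.snd g (e ≫ q)) (pullback.snd g q) e hk π
    (pullback.lift_snd _ _ _) hjlci hCj hCe hDCj hDe
  obtain ⟨u₁⟩ := hdt hDt
  have et : (j ≫ k₀) ≫ pullback.fst g q = i := by
    rw [Category.assoc, HT.lift_fst, pullback.lift_fst]
  have hp : SmoothOfRelativeDimension m (pullback.fst g q) :=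
    (smoothOfRelativeDimension_isStableUnderBaseChange m).of_isPullback HT.flip hq
  haveI : (Omega.sheaf (pullback.fst g q)).IsQuasicoherent := Omega57.isQuasicoherent_omega _
  obtain ⟨hR', hdt'⟩ := det_conormal (j ≫ k₀) (pullback.fst g q) i et hp hC hDC
    (Om3.isExtPow_pullback (j ≫ k₀) (Om3.isExtPow_omega_of_isPullback HT.flip hDA))
  obtain ⟨u₂⟩ : Nonempty (Dt ≅ CohB1.tensorMod ((Scheme.Modules.pullback (j ≫ k₀)).obj
      ((Scheme.Modules.pullback (pullback.snd g q)).obj DA)) DC) := by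
    rcases isEmpty_or_nonempty X with hX | hX
    · exact isIso_of_isEmpty _ _
    · exact hdt' (finrank_eq_of_locFree hR hR' ▸ hDt)
  -- `p^* DCj ≅ p^* DC`
  obtain ⟨hωinv, hDCinv, hDΩinv⟩ := isInvertible_of_via i g hC hg hDC hDΩ a
  have hDeI := isInvertible_extPow hCe hDe
  have hDAI := Amp73.isInvertible_pullback e (isInvertible_extPow (Om3.TopForms.isFinLocFreeOfRank_omega q m) hDA)
  have hDCjI := isInvertible_extPow hCj hDCj
  let L₂ := (Scheme.Modules.pullback e).obj DA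
  let u₃ : CohB1.tensorMod DCj ((Scheme.Modules.pullback π).obj De) ≅
      CohB1.tensorMod ((Scheme.Modules.pullback π).obj L₂) DC :=
    u₁.symm ≪≫ u₂ ≪≫ EGA73.tensIso ((Scheme.Modules.pullbackComp (j ≫ k₀) (pullback.snd g q)).app DA ≪≫
      (Scheme.Modules.pullbackCongr (by
        rw [Category.assoc, HT.lift_snd, ← Category.assoc, pullback.lift_snd] :
          (j ≫ k₀) ≫ pullback.snd g q = π ≫ e)).app DA ≪≫
      ((Scheme.Modules.pullbackComp π e).app DA).symm) (Iso.refl _)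
  have triv : ∀ {L : U.Modules}, PicF.IsInvertible L → Nonempty
      ((Scheme.Modules.pullback pX).obj ((Scheme.Modules.pullback π).obj L) ≅ Coh.structureModule P) := by
    intro L hL
    obtain ⟨t⟩ := Theta99.trivial_of_field (Amp73.isInvertible_pullback s hL)
    exact ⟨(Scheme.Modules.pullbackComp pX π).app L ≪≫ (Scheme.Modules.pullbackCongr sq.w).app L ≪≫
      ((Scheme.Modules.pullbackComp v s).app L).symm ≪≫ (Scheme.Modules.pullback v).mapIso t ≪≫
      PicLoc.pullbackStructureIso v⟩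
  haveI := Amp73.isIso_pullTensHom pX hDCjI (Amp73.isInvertible_pullback π hDeI)
  haveI := Amp73.isIso_pullTensHom pX (Amp73.isInvertible_pullback π hDAI) hDCinv
  haveI := Amp73.isIso_pullTensHom pX hωinv hDCinv
  obtain ⟨t₁⟩ := triv hDeI
  obtain ⟨t₂⟩ := triv hDAI
  let η : (Scheme.Modules.pullback pX).obj DCj ≅ (Scheme.Modules.pullback pX).obj DC :=
    (EGA73.tensUnitRight _).symm ≪≫ EGA73.tensIso (Iso.refl _) t₁.symm ≪≫
      (asIso (Amp73.pullTensHom pX _ _)).symm ≪≫ (Scheme.Modules.pullback pX).mapIso u₃ ≪≫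
      asIso (Amp73.pullTensHom pX _ _) ≪≫ EGA73.tensIso t₂ (Iso.refl _) ≪≫ EGA73.tensComm _ _ ≪≫
      EGA73.tensUnitRight _
  -- the factorisation over `k`
  have Hk := IsPullback.of_hasPullback (pullback.snd g (e ≫ q)) s
  let jη : P ⟶ pullback (pullback.snd g (e ≫ q)) s := Hk.lift (pX ≫ j) v
    (by rw [Category.assoc, pullback.lift_snd]; exact sq.w)
  have ev : jη ≫ pullback.snd _ s = v := Hk.lift_snd _ _ _
  have hjη : IsPullback jη pX (pullback.fst (pullback.snd g (e ≫ q)) s) j := by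
    have outer : IsPullback v pX s (j ≫ pullback.snd g (e ≫ q)) := by
      rw [pullback.lift_snd]; exact sq.flip
    have := outer.of_right' Hk.flip
    rwa [show Hk.flip.lift v (pX ≫ j) _ = jη from Hk.hom_ext
      ((Hk.flip.lift_snd _ _ _).trans (Hk.lift_fst _ _ _).symm)
      ((Hk.flip.lift_fst _ _ _).trans ev.symm)] at this
  haveI : IsImmersion jη := MorphismProperty.of_isPullback hjη.flip inferInstance
  haveI : QuasiCompact jη := MorphismProperty.of_isPullback hjη.flip inferInstance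
  haveI : IsLocallyNoetherian (pullback (pullback.snd g (e ≫ q)) s) :=
    LocallyOfFiniteType.isLocallyNoetherian (pullback.snd (pullback.snd g (e ≫ q)) s)
  obtain ⟨φ, hφ, -⟩ := Om3.existsUnique_conormalMap
    (hjη.w.symm : pX ≫ j = jη ≫ pullback.fst (pullback.snd g (e ≫ q)) s)
  haveI : IsIso φ := (Om3.epi_and_isIso hjη hφ).2 inferInstance
  have hkos := S8652.result j (pullback.fst (pullback.snd g (e ≫ q)) s) jη pX hjη.flip
    (FlatMor68.KoszulCalc.isRegularImmersion_of_lciProp j hjlci)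
  have hn₁ : SmoothOfRelativeDimension n (pullback.snd g (e ≫ q)) :=
    (smoothOfRelativeDimension_isStableUnderBaseChange n).of_isPullback H hg
  refine ⟨_, jη, pullback.snd (pullback.snd g (e ≫ q)) s, d, n, ev,
    regular_codim_of_koszul jη hkos (isFinLocFreeOfRank_of_iso (asIso φ) (isFinLocFreeOfRank_pullback pX hCj)),
    (smoothOfRelativeDimension_isStableUnderBaseChange n).of_isPullback Hk hn₁, inferInstance, inferInstance,
    _, _, Om3.isExtPow_of_iso (asIso φ) (Om3.isExtPow_pullback pX hDCj),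
    Om3.isExtPow_omega_of_isPullback Hk (Om3.isExtPow_omega_of_isPullback H hDΩ), ⟨?_⟩⟩
  refine EGA73.tensIso (Iso.refl _) η ≪≫ (asIso (Amp73.pullTensHom pX ω DC)).symm ≪≫
    (Scheme.Modules.pullback pX).mapIso a ≪≫ (Scheme.Modules.pullbackComp pX i).app DΩ ≪≫ ?_
  exact (Scheme.Modules.pullbackCongr (by
      rw [← Category.assoc, hjη.w, Category.assoc, pullback.lift_fst] :
        jη ≫ pullback.fst (pullback.snd g (e ≫ q)) s ≫ pullback.fst g (e ≫ q) = pX ≫ i)).symm.app DΩ ≪≫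
    ((Scheme.Modules.pullbackComp jη _).app DΩ).symm ≪≫
    (Scheme.Modules.pullback jη).mapIso ((Scheme.Modules.pullbackComp _ (pullback.fst g (e ≫ q))).app DΩ).symm

end Groth.Agent.CAlg8.Canon
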