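import Groth.Agent.CAlg8.Canon.Basic
import Groth.Agent.Om3.ExtPowOmega

/-! The canonical sheaf does not depend on the factorisation. -/

set_option autoImplicit false
set_option linter.style.haveILetI false
set_option backward.isDefEq.respectTransparency false

universe u

open CategoryTheory CategoryTheory.Limits AlgebraicGeometry TopologicalSpace Opposite

noncomputable section

namespace Groth.Agent.CAlg8.Canon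

open Groth.Agent

variable {X Y Z₁ Z₂ : Scheme.{u}}

/-- One of the two determinant computations for the diagonal factorisation. -/
theorem det_diag (i₁ : X ⟶ Z₁) (g₁ : Z₁ ⟶ Y) (i₂ : X ⟶ Z₂) (g₂ : Z₂ ⟶ Y) [QuasiCompact i₁]
    [QuasiSeparated g₁] [QuasiSeparated g₂] {P : Scheme.{u}} {p₁ : P ⟶ Z₁} {p₂ : P ⟶ Z₂}
    (sq : IsPullback p₁ p₂ g₁ g₂) (i₃ : X ⟶ P) (e₁ : i₃ ≫ p₁ = i₁) (e₂ : i₃ ≫ p₂ = i₂) [IsImmersion i₁]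
    {c₁ n₂ : ℕ} (hg₂ : SmoothOfRelativeDimension n₂ g₂)
    (hC : FlatMod.IsFinLocFreeOfRank c₁ (Omega.conormal i₁))
    {DC₁ : X.Modules} (hDC : ExtPow.IsExtPow c₁ (Omega.conormal i₁) DC₁)
    {DΩ₂ : Z₂.Modules} (hDΩ : ExtPow.IsExtPow n₂ (Omega.sheaf g₂) DΩ₂) :
    IsImmersion i₃ ∧ ∃ (_ : QuasiCompact i₃), FlatMod.IsFinLocFreeOfRank (n₂ + c₁) (Omega.conormal i₃) ∧
      ∀ {LE : X.Modules}, ExtPow.IsExtPow (n₂ + c₁) (Omega.conormal i₃) LE →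
        Nonempty (LE ≅ CohB1.tensorMod ((Scheme.Modules.pullback i₂).obj DΩ₂) DC₁) := by
  haveI : QuasiSeparated p₁ := MorphismProperty.of_isPullback sq.flip inferInstance
  have hp₁ : SmoothOfRelativeDimension n₂ p₁ :=
    (smoothOfRelativeDimension_isStableUnderBaseChange n₂).of_isPullback sq.flip hg₂
  haveI : IsImmersion i₃ := by
    haveI : IsImmersion (i₃ ≫ p₁) := e₁ ▸ inferInstance
    exact IsImmersion.of_comp i₃ p₁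
  haveI : QuasiCompact i₃ := by
    haveI : QuasiCompact (i₃ ≫ p₁) := e₁ ▸ inferInstance
    exact QuasiCompact.of_comp i₃ p₁
  haveI : (Omega.sheaf p₁).IsQuasicoherent := Omega57.isQuasicoherent_omega p₁
  have hΩ := Om3.isExtPow_pullback i₃ (Om3.isExtPow_omega_of_isPullback sq.flip hDΩ)
  obtain ⟨hE, hdet⟩ := det_conormal i₃ p₁ i₁ e₁ hp₁ hC hDC hΩ
  refine ⟨inferInstance, inferInstance, hE, fun hLE => ?_⟩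
  obtain ⟨e⟩ := hdet hLE
  exact ⟨e ≪≫ EGA73.tensIso ((Scheme.Modules.pullbackComp i₃ p₂).app DΩ₂ ≪≫
    (Scheme.Modules.pullbackCongr e₂).app DΩ₂) (Iso.refl _)⟩

theorem nonempty_iso_of_rank (i₁ : X ⟶ Z₁) (g₁ : Z₁ ⟶ Y) (i₂ : X ⟶ Z₂) (g₂ : Z₂ ⟶ Y)
    [IsImmersion i₁] [IsImmersion i₂] [QuasiCompact i₁] [QuasiCompact i₂] [QuasiSeparated g₁] [QuasiSeparated g₂]
    (h : i₁ ≫ g₁ = i₂ ≫ g₂) {c₁ n₁ c₂ n₂ : ℕ}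
    (hi₁ : FlatMod.IsFinLocFreeOfRank c₁ (Omega.conormal i₁)) (hg₁ : SmoothOfRelativeDimension n₁ g₁)
    (hi₂ : FlatMod.IsFinLocFreeOfRank c₂ (Omega.conormal i₂)) (hg₂ : SmoothOfRelativeDimension n₂ g₂)
    {ω₁ ω₂ : X.Modules} (hω₁ : Canon.IsCanonicalVia i₁ g₁ c₁ n₁ ω₁)
    (hω₂ : Canon.IsCanonicalVia i₂ g₂ c₂ n₂ ω₂) : Nonempty (ω₁ ≅ ω₂) := by
  rcases isEmpty_or_nonempty X with hX | hX
  · exact isIso_of_isEmpty _ _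
  obtain ⟨DC₁, DΩ₁, hDC₁, hDΩ₁, ⟨a₁⟩⟩ := hω₁
  obtain ⟨DC₂, DΩ₂, hDC₂, hDΩ₂, ⟨a₂⟩⟩ := hω₂
  let i₃ : X ⟶ pullback g₁ g₂ := pullback.lift i₁ i₂ h
  have sq := IsPullback.of_hasPullback g₁ g₂
  obtain ⟨-, hqc, hE₁, hd₁⟩ := det_diag i₁ g₁ i₂ g₂ sq i₃ (pullback.lift_fst _ _ _) (pullback.lift_snd _ _ _)
    hg₂ hi₁ hDC₁ hDΩ₂
  obtain ⟨-, -, hE₂, hd₂⟩ := det_diag i₂ g₂ i₁ g₁ sq.flip i₃ (pullback.lift_snd _ _ _) (pullback.lift_fst _ _ _)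
    hg₁ hi₂ hDC₂ hDΩ₁
  haveI := qcoh_conormal i₃
  obtain ⟨LE, hLE⟩ := FBase64.ExtPowExists.exists_isExtPow (E := Omega.conormal i₃) (p := n₂ + c₁)
  have hrank : n₂ + c₁ = n₁ + c₂ := finrank_eq_of_locFree hE₁ hE₂
  obtain ⟨b₁⟩ := hd₁ hLE
  obtain ⟨b₂⟩ := hd₂ (hrank ▸ hLE)
  let Q₁ := (Scheme.Modules.pullback i₁).obj DΩ₁
  let Q₂ := (Scheme.Modules.pullback i₂).obj DΩ₂
  refine nonempty_iso_of_tensor_right (isInvertible_extPow hE₁ hLE) ?_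
  exact EGA73.tensIso (Iso.refl ω₁) (b₁ ≪≫ EGA73.tensComm Q₂ DC₁) ≪≫ (EGA73.tensAssoc' ω₁ DC₁ Q₂).symm ≪≫
    EGA73.tensIso a₁ (Iso.refl Q₂) ≪≫ EGA73.tensComm Q₁ Q₂ ≪≫ EGA73.tensIso a₂.symm (Iso.refl Q₁) ≪≫
    EGA73.tensAssoc' ω₂ DC₂ Q₁ ≪≫ EGA73.tensIso (Iso.refl ω₂) (EGA73.tensComm DC₂ Q₁ ≪≫ b₂.symm)

theorem nonempty_iso_of_isCanonicalVia (i₁ : X ⟶ Z₁) (g₁ : Z₁ ⟶ Y) (i₂ : X ⟶ Z₂) (g₂ : Z₂ ⟶ Y)
    [QuasiCompact i₁] [QuasiCompact i₂] [QuasiSeparated g₁] [QuasiSeparated g₂]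
    (h : i₁ ≫ g₁ = i₂ ≫ g₂) {c₁ n₁ c₂ n₂ : ℕ}
    (hi₁ : RegImm.IsRegularImmersionOfCodim .regular c₁ i₁) (hg₁ : SmoothOfRelativeDimension n₁ g₁)
    (hi₂ : RegImm.IsRegularImmersionOfCodim .regular c₂ i₂) (hg₂ : SmoothOfRelativeDimension n₂ g₂)
    {ω₁ ω₂ : X.Modules} (hω₁ : Canon.IsCanonicalVia i₁ g₁ c₁ n₁ ω₁)
    (hω₂ : Canon.IsCanonicalVia i₂ g₂ c₂ n₂ ω₂) : Nonempty (ω₁ ≅ ω₂) :=
  haveI := hi₁.1
  haveI := hi₂.1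
  nonempty_iso_of_rank i₁ g₁ i₂ g₂ h (isFinLocFreeOfRank_conormal rfl i₁ hi₁) hg₁
    (isFinLocFreeOfRank_conormal rfl i₂ hi₂) hg₂ hω₁ hω₂

end Groth.Agent.CAlg8.Canon
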