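import Groth.Prelude.Def_Canon
import Groth.Prelude.Def_RedSub
import Groth.Agent.CAlg8.Canon.Basic
import Groth.Agent.Cube7.Seesaw
import Groth.Agent.AbSch7.SmoothFib
import Groth.Agent.AbSch7.PushPull
import Groth.Agent.Approx60.Segre
import Groth.Agent.S1177
import Groth.Agent.LimTop61.LocFreeStage
import Groth.Agent.Mero90.Frames
import Groth.Agent.Div89.PushAss

/-! Pluricanonical sheaves of smooth proper families. -/

set_option autoImplicit false
set_option linter.style.haveILetI false
set_option backward.isDefEq.respectTransparency false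

universe u

open CategoryTheory CategoryTheory.Limits AlgebraicGeometry TopologicalSpace Opposite

noncomputable section

namespace Groth.Agent.CAlg8.Canon

open Groth.Agent

variable {X S : Scheme.{u}}

theorem isProper_of_isLocallyProjective (f : X ⟶ S) (h : RedSub.IsLocallyProjective (Over.mk f)) : IsProper f := by
  choose V hV n e he hc using h
  refine IsZariskiLocalAtTarget.of_iSup_eq_top V (top_le_iff.1 fun s _ => Opens.mem_iSup.2 ⟨s, hV s⟩) fun s => ?_
  haveI := Approx60.Segre.isProper_toBase (n s) (V s : Scheme.{u})
  haveI := he s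
  have h1 : IsProper (pullback.snd f (V s).ι) := by
    show IsProper (Red.bc (V s).ι (Over.mk f)).hom
    rw [← hc s]
    infer_instance
  have e' := (IsPullback.of_hasPullback f (V s).ι)
  have e'' := (isPullback_morphismRestrict f (V s)).flip
  rw [← e''.isoIsPullback_hom_snd _ _ e']
  infer_instance

theorem isInvertible_topDiff_pow (f : X ⟶ S) [QuasiSeparated f] (n : ℕ) [SmoothOfRelativeDimension n f]
    {ω : X.Modules} (hω : Canon.IsTopDiff f n ω) (m : ℕ) : PicF.IsInvertible (CohB1.tensorPow ω m) :=
  haveI : (Omega.sheaf f).IsQuasicoherent := Omega57.isQuasicoherent_omega f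
  EGA73.isInvertible_tensorPow (isInvertible_extPow (Om3.TopForms.isFinLocFreeOfRank_omega f n) hω) m

/-- An invertible module is detected after a faithfully flat quasi-compact base change. -/
theorem isInvertible_of_pullback {X X' : Scheme.{u}} (c : X' ⟶ X) [Flat c] [Surjective c]
    [QuasiCompact c] (L : X.Modules) [L.IsQuasicoherent]
    (h : PicF.IsInvertible ((Scheme.Modules.pullback c).obj L)) : PicF.IsInvertible L := by
  have h1 := Mero90.isFinLocFreeOfRank_of_isInvertible h
  rw [LimTop61.isFinLocFreeOfRank_iff] at h1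
  have hL : FlatMod.IsFinLocFree L := Groth.Agent.S1177.result c L h1.1
  have h2 : FlatMod.IsFinLocFreeOfRank 1 L := LimTop61.isFinLocFreeOfRank_iff.mpr ⟨hL, fun x => by
    obtain ⟨x', rfl⟩ := c.surjective x
    exact (LimTop61.stalkRk_pullback c hL x').symm.trans (h1.2 x')⟩
  intro x
  obtain ⟨U, hx, ⟨φ⟩⟩ := h2 x
  exact ⟨U, hx, ⟨φ ≪≫ coproductUniqueIso fun _ : Fin 1 => Coh.structureModule (↑U : Scheme.{u})⟩⟩

/-- An invertible sheaf pulled back from the direct image descends. -/
theorem isInvertible_push_of_isIso_counit [IsLocallyNoetherian S] (f : X ⟶ S) [IsProper f] [Flat f] [Surjective f]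
    {L : X.Modules} (hL : PicF.IsInvertible L)
    (hev : IsIso ((Scheme.Modules.pullbackPushforwardAdjunction f).counit.app L)) :
    PicF.IsInvertible ((Scheme.Modules.pushforward f).obj L) := by
  haveI : ((Scheme.Modules.pushforward f).obj L).IsQuasicoherent :=
    Div89.isQCoh_pushforward f L (Mero90.isQCoh_of_isInvertible hL)
  exact isInvertible_of_pullback f _ (EGA73.isInvertible_of_iso
    (asIso ((Scheme.Modules.pullbackPushforwardAdjunction f).counit.app L)).symm hL)

theorem surjective_of_geometricallyConnected (f : X ⟶ S) [GeometricallyConnected f] : Surjective f := by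
  infer_instance

/-- A map out of a pullback which is an isomorphism has an isomorphism as transpose when `f_*O = O`. -/
theorem isIso_transpose [IsLocallyNoetherian S] (f : X ⟶ S) [IsProper f] [Flat f] (h0 : AbSch7.H0Fib f)
    {M : S.Modules} (hM : PicF.IsInvertible M) {L : X.Modules}
    (φ : (Scheme.Modules.pullback f).obj M ⟶ L) [IsIso φ] :
    IsIso ((Scheme.Modules.pullbackPushforwardAdjunction f).homEquiv _ _ φ) := by
  haveI : IsIso ((Scheme.Modules.pullbackPushforwardAdjunction f).unit.app M) :=
    AbSch7.isIso_pullUnit f M (fun x => by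
      obtain ⟨U, hx, e⟩ := Mero90.isFinLocFreeOfRank_of_isInvertible hM x
      exact ⟨U, 1, hx, e⟩) (AbSch7.app_bijective f h0)
  rw [Adjunction.homEquiv_unit]
  infer_instance

end Groth.Agent.CAlg8.Canon
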